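import Mathlib

/-!
# Arithmetic
-/

set_option autoImplicit false
set_option linter.unusedSectionVars false

namespace Cfsg.Agent.H555.F3.Arith

theorem arith_one {r n a c o D oR m d : ℕ} (hr : 2 ≤ r) (hn : 2 ≤ n)
    (h1 : o * (r * n) = d ^ 2 + (n - 1) * m ^ 2 + n * (r - 1))
    (h2 : oR * r = d ^ 2 + (r - 1)) (h4 : c ≤ o) (h5 : D + (n - 1) * a ^ 2 ≤ n * c)
    (h6 : oR ≤ D) : r * a ^ 2 ≤ m ^ 2 + (r - 1) := by
  obtain ⟨k, rfl⟩ : ∃ k, n = k + 1 := ⟨n - 1, by omega⟩
  obtain ⟨t, rfl⟩ : ∃ t, r = t + 1 := ⟨r - 1, by omega⟩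
  simp only [Nat.add_sub_cancel] at h1 h2 h5 ⊢
  have h7 : oR + k * a ^ 2 ≤ (k + 1) * o := by
    calc oR + k * a ^ 2 ≤ D + k * a ^ 2 := Nat.add_le_add_right h6 _
      _ ≤ (k + 1) * c := h5
      _ ≤ (k + 1) * o := Nat.mul_le_mul_left _ h4
  have h8 : (oR + k * a ^ 2) * (t + 1) ≤ ((k + 1) * o) * (t + 1) := Nat.mul_le_mul_right _ h7
  have h9 : ((k + 1) * o) * (t + 1) = d ^ 2 + k * m ^ 2 + (k + 1) * t := by
    rw [← h1]
    ring
  rw [h9, add_mul, h2] at h8
  have h10 : k * ((t + 1) * a ^ 2) ≤ k * (m ^ 2 + t) := by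
    nlinarith
  exact Nat.le_of_mul_le_mul_left h10 (by omega)

theorem dvd_sq_sub {r m : ℕ} (hr : r.Prime) (hm : 2 ≤ m) (h : r ∣ m ^ 2 - 1) : r ≤ m + 1 := by
  have h1 : m ^ 2 - 1 = (m - 1) * (m + 1) := by
    obtain ⟨k, rfl⟩ : ∃ k, m = k + 1 := ⟨m - 1, by omega⟩
    rw [Nat.add_sub_cancel]
    have : (k + 1) ^ 2 = k * (k + 1 + 1) + 1 := by ring
    rw [this, Nat.add_sub_cancel]
  rw [h1] at h
  rcases (Nat.Prime.dvd_mul hr).mp h with h | h
  · have := Nat.le_of_dvd (by omega) h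
    omega
  · exact Nat.le_of_dvd (by omega) h

theorem arith_core {r n a c o oR m e : ℕ} (hr : r.Prime) (hn : n.Prime) (hrn : r ≠ n)
    (hm : 1 ≤ m) (he : 2 ≤ e) (hrm : r ∣ m ^ 2 - 1) (hcop : n.Coprime m)
    (h1 : o * (r * n) = (m * e) ^ 2 + (n - 1) * m ^ 2 + n * (r - 1))
    (h2 : oR * r = (m * e) ^ 2 + (r - 1)) (h3 : m * e ≤ c) (h4 : c ≤ o)
    (h5 : r * a ^ 2 ≤ m ^ 2 + (r - 1))
    (h7 : m * e ≤ r * a + (r - 1)) : n = 2 ∧ m = 1 ∧ m * e = 2 * r - 1 := by
  have hr2 := hr.two_le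
  have hn2 := hn.two_le
  rcases Nat.eq_or_lt_of_le hm with hm1 | hm2
  · subst hm1
    have ha : a ≤ 1 := by
      by_contra hcon
      push Not at hcon
      have : r * 4 ≤ r * a ^ 2 := Nat.mul_le_mul_left r (by nlinarith)
      omega
    rw [one_mul] at *
    have he2 : e ≤ 2 * r - 1 := by
      have : r * a ≤ r * 1 := Nat.mul_le_mul_left r ha
      omega
    have h8 : r * n ≤ e + 1 := by
      have h9 : e * (r * n) ≤ o * (r * n) := Nat.mul_le_mul_right _ (h3.trans h4)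
      rw [h1, one_pow, mul_one] at h9
      obtain ⟨k, rfl⟩ : ∃ k, e = k + 1 := ⟨e - 1, by omega⟩
      have h10 : (n - 1) + n * (r - 1) + 1 = r * n := by
        obtain ⟨u, rfl⟩ : ∃ u, n = u + 1 := ⟨n - 1, by omega⟩
        obtain ⟨t, rfl⟩ : ∃ t, r = t + 1 := ⟨r - 1, by omega⟩
        rw [Nat.add_sub_cancel, Nat.add_sub_cancel]
        ring
      have h11 : (k + 1) * (r * n) + 1 ≤ (k + 1) ^ 2 + r * n := by omega
      have h12 : k * (r * n) ≤ k * (k + 1 + 1) := by nlinarith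
      exact Nat.le_of_mul_le_mul_left h12 (by omega)
    have h9 : r * n ≤ r * 2 := by omega
    have h10 : n ≤ 2 := Nat.le_of_mul_le_mul_left h9 (by omega)
    have h11 : n = 2 := le_antisymm h10 hn2
    subst h11
    exact ⟨rfl, rfl, by omega⟩
  · exfalso
    have hrm' := dvd_sq_sub hr hm2 hrm
    have hme : r ∣ (m * e) ^ 2 - 1 := by
      have h8 : r ∣ (m * e) ^ 2 - 1 + r := by
        have h9 : (m * e) ^ 2 - 1 + r = oR * r := by
          rw [h2]
          have : 1 ≤ (m * e) ^ 2 := Nat.one_le_pow _ _ (by positivity)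
          omega
        rw [h9]
        exact dvd_mul_left _ _
      exact (Nat.dvd_add_left (dvd_refl r)).mp h8
    have hre : r ∣ e ^ 2 - 1 := by
      have h8 : (m * e) ^ 2 - 1 = (m ^ 2 - 1) * e ^ 2 + (e ^ 2 - 1) := by
        have h9 : 1 ≤ m ^ 2 := Nat.one_le_pow _ _ (by omega)
        have h10 : 1 ≤ e ^ 2 := Nat.one_le_pow _ _ (by omega)
        obtain ⟨u, hu⟩ : ∃ u, m ^ 2 = u + 1 := ⟨m ^ 2 - 1, by omega⟩
        rw [mul_pow, hu, Nat.add_sub_cancel, add_mul, one_mul]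
        omega
      rw [h8] at hme
      exact (Nat.dvd_add_right (hrm.mul_right _)).mp hme
    have hre' := dvd_sq_sub hr he hre
    -- size
    have h8 : (m * (e - 1)) ^ 2 ≤ r * (m ^ 2 + (r - 1)) := by
      have h9 : m * (e - 1) ≤ r * a := by
        obtain ⟨f, rfl⟩ : ∃ f, e = f + 1 := ⟨e - 1, by omega⟩
        rw [Nat.add_sub_cancel]
        rw [mul_add, mul_one] at h7
        omega
      calc (m * (e - 1)) ^ 2 ≤ (r * a) ^ 2 := Nat.pow_le_pow_left h9 2
        _ = r * (r * a ^ 2) := by ring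
        _ ≤ _ := Nat.mul_le_mul_left r h5
    have h9 : (e - 1) ^ 2 ≤ r + 1 := by
      by_contra hcon
      push Not at hcon
      have h10 : m ^ 2 * (r + 2) ≤ (m * (e - 1)) ^ 2 := by
        rw [mul_pow]
        exact Nat.mul_le_mul_left _ hcon
      have h11 : r * (r - 1) ≤ m * (m + 1) := by
        calc r * (r - 1) ≤ (m + 1) * (r - 1) := Nat.mul_le_mul_right _ hrm'
          _ ≤ (m + 1) * m := Nat.mul_le_mul_left _ (by omega)
          _ = m * (m + 1) := mul_comm _ _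
      have h12 : r * (m ^ 2 + (r - 1)) = r * m ^ 2 + r * (r - 1) := mul_add _ _ _
      nlinarith
    have h10 : r ≤ 4 := by
      by_contra hcon
      push Not at hcon
      obtain ⟨t, rfl⟩ : ∃ t, r = t + 5 := ⟨r - 5, by omega⟩
      have : t + 3 ≤ e - 1 := by omega
      nlinarith [Nat.pow_le_pow_left this 2]
    have h11 : r = 2 ∨ r = 3 := by
      interval_cases r
      · exact Or.inl rfl
      · exact Or.inr rfl
      · exact absurd hr (by norm_num)
    rcases h11 with rfl | rfl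
    · have : e ≤ 2 := by
        by_contra hcon
        push Not at hcon
        have : 2 ≤ e - 1 := by omega
        nlinarith [Nat.pow_le_pow_left this 2]
      have he2 : e = 2 := by omega
      subst he2
      norm_num at hre
    · have : e ≤ 3 := by
        by_contra hcon
        push Not at hcon
        have : 3 ≤ e - 1 := by omega
        nlinarith [Nat.pow_le_pow_left this 2]
      have he2 : e = 2 := by
        interval_cases e
        · rfl
        · norm_num at hre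
      subst he2
      -- n ∣ m ^ 2 * 3
      have h12 : n ∣ m ^ 2 * 3 := by
        have h13 : m ^ 2 * 3 + n * (m ^ 2 + 2) = o * (3 * n) := by
          rw [h1]
          obtain ⟨u, rfl⟩ : ∃ u, n = u + 1 := ⟨n - 1, by omega⟩
          rw [Nat.add_sub_cancel]
          ring
        have h14 : n ∣ m ^ 2 * 3 + n * (m ^ 2 + 2) := by
          rw [h13]
          exact ⟨o * 3, by ring⟩
        exact (Nat.dvd_add_left (dvd_mul_right _ _)).mp h14
      have h13 : n ∣ 3 := (Nat.Coprime.pow_right 2 hcop).dvd_of_dvd_mul_left h12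
      exact hrn ((Nat.prime_dvd_prime_iff_eq hn (by norm_num)).mp h13).symm

end Cfsg.Agent.H555.F3.Arith
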