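import Cfsg.Agent.H555.F3.Orb
import Cfsg.Agent.H555.F3.Arith

/-!
# A group centralising `R` and trivial on the fixed points of `R`
-/

set_option autoImplicit false
set_option linter.unusedSectionVars false

namespace Cfsg.Agent.H555.F3.Core

open Module Subgroup Cfsg.Agent.H575 Cfsg.Agent.H575.Dim Cfsg.Agent.H575.ExtraIrr
  Cfsg.Agent.H575.Fix Cfsg.Agent.H555.F3.Orb Cfsg.Agent.H555.F3.Lin Cfsg.Agent.H555.F3.Arith
open scoped commutatorElement

section Tau

variable {G : Type*} [Group G] [Finite G] {F T : Subgroup G}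

/-- the permutation of `F / Z(F)` induced by an element -/
def tau (hTF : T ≤ normalizer (F : Set G)) : T →* Equiv.Perm (F ⧸ center F) :=
  @MulAction.toPermHom T (F ⧸ center F) _ (actQ hTF)

theorem tau_mk (hTF : T ≤ normalizer (F : Set G)) (t : T) (f : F) :
    tau hTF t (f : F ⧸ center F) = (alpha hTF t f : F) := rfl

theorem tau_one (hTF : T ≤ normalizer (F : Set G)) (t : T) :
    tau hTF t (1 : F ⧸ center F) = 1 := smul_one' hTF t

theorem tau_mul (hTF : T ≤ normalizer (F : Set G)) (t : T) (x y : F ⧸ center F) :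
    tau hTF t (x * y) = tau hTF t x * tau hTF t y := by
  induction x using QuotientGroup.induction_on with | H f => ?_
  induction y using QuotientGroup.induction_on with | H g => ?_
  rw [← QuotientGroup.mk_mul, tau_mk, tau_mk, tau_mk, map_mul, QuotientGroup.mk_mul]

theorem tau_comm {R : Subgroup G} (hTF : T ≤ normalizer (F : Set G))
    (hRF : R ≤ normalizer (F : Set G)) (hTR : ∀ t ∈ T, ∀ a ∈ R, t * a = a * t) (t : T) (a : R)
    (x : F ⧸ center F) :
    letI := actQ hRF
    tau hTF t (a • x) = a • tau hTF t x := by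
  let _ := actQ hRF
  induction x using QuotientGroup.induction_on with | H f => ?_
  show (((alpha hTF t (alpha hRF a f) : F)) : F ⧸ center F) = (alpha hRF a (alpha hTF t f) : F)
  congr 1
  apply Subtype.ext
  rw [alpha_coe, alpha_coe, alpha_coe, alpha_coe]
  have h1 : (t : G) * a = a * t := hTR t t.2 a a.2
  have h2 : (a : G)⁻¹ * (t : G)⁻¹ = (t : G)⁻¹ * (a : G)⁻¹ := by
    rw [← mul_inv_rev, ← mul_inv_rev, h1]
  calc (t : G) * (a * f * (a : G)⁻¹) * (t : G)⁻¹ = (t * a) * f * ((a : G)⁻¹ * (t : G)⁻¹) := by group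
    _ = (a * t) * f * ((t : G)⁻¹ * (a : G)⁻¹) := by rw [h1, h2]
    _ = _ := by group

/-- an element acting trivially on `F / Z(F)` and on `Z(F)` of coprime order is trivial on `F` -/
theorem alpha_eq_of_tau {s : ℕ} (hs : s.Prime) (hZ : Nat.card (center F) = s)
    (hTF : T ≤ normalizer (F : Set G)) (hTs : ¬ s ∣ Nat.card T)
    (hTZ : ∀ t ∈ T, ∀ z ∈ (center F).map F.subtype, t * z = z * t) {t : T}
    (ht : tau hTF t = 1) (f : F) : alpha hTF t f = f := by
  have hz : f⁻¹ * alpha hTF t f ∈ center F := by
    have h1 : ((alpha hTF t f : F) : F ⧸ center F) = f := by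
      rw [← tau_mk, ht]
      rfl
    exact QuotientGroup.eq.mp h1.symm
  set z := f⁻¹ * alpha hTF t f with hzdef
  have h1 : alpha hTF t f = f * z := by rw [hzdef]; group
  have h2 : alpha hTF t z = z := by
    apply Subtype.ext
    rw [alpha_coe, hTZ t t.2 (z : G) ⟨z, hz, rfl⟩, mul_inv_cancel_right]
  have h3 : ∀ n : ℕ, alpha hTF (t ^ n) f = f * z ^ n := by
    intro n
    induction n with
    | zero => rw [pow_zero, map_one, pow_zero, mul_one]; rfl
    | succ n ih =>
      rw [pow_succ', map_mul, MulAut.mul_apply, ih, map_mul, h1, map_pow, h2, pow_succ',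
        mul_assoc]
  have h4 := h3 (Nat.card T)
  have h5 : t ^ Nat.card T = 1 := pow_card_eq_one'
  rw [h5, map_one, MulAut.one_apply] at h4
  have h6 : z ^ Nat.card T = 1 := by
    have h7 : f * 1 = f * z ^ Nat.card T := by rw [mul_one]; exact h4
    exact (mul_left_cancel h7).symm
  have h7 : z ^ s = 1 := by
    have h8 : (⟨z, hz⟩ : center F) ^ Nat.card (center F) = 1 := pow_card_eq_one'
    rw [hZ] at h8
    exact congrArg Subtype.val h8
  have h8 : orderOf z ∣ 1 := by
    rw [← ((Nat.Prime.coprime_iff_not_dvd hs).mpr hTs)]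
    exact Nat.dvd_gcd (orderOf_dvd_of_pow_eq_one h7) (orderOf_dvd_of_pow_eq_one h6)
  have h9 : z = 1 := orderOf_eq_one_iff.mp (Nat.dvd_one.mp h8)
  rw [h1, h9, mul_one]

/-- the fixed points of an element of `F / Z(F)` as a subgroup of `F` -/
def fixF (hTF : T ≤ normalizer (F : Set G)) (t : T) : Subgroup F where
  carrier := {f | tau hTF t (f : F ⧸ center F) = f}
  mul_mem' := by
    intro a b ha hb
    show tau hTF t ((a * b : F) : F ⧸ center F) = (a * b : F)
    rw [QuotientGroup.mk_mul, tau_mul, ha, hb]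
  one_mem' := tau_one hTF t
  inv_mem' := by
    intro a ha
    show tau hTF t ((a⁻¹ : F) : F ⧸ center F) = (a⁻¹ : F)
    have h1 : tau hTF t ((a⁻¹ : F) : F ⧸ center F) * tau hTF t (a : F ⧸ center F) = 1 := by
      rw [← tau_mul, ← QuotientGroup.mk_mul, inv_mul_cancel]
      exact tau_one hTF t
    rw [show tau hTF t (a : F ⧸ center F) = a from ha] at h1
    rw [QuotientGroup.mk_inv]
    exact eq_inv_of_mul_eq_one_left h1

theorem mem_fixF (hTF : T ≤ normalizer (F : Set G)) (t : T) (f : F) :
    f ∈ fixF hTF t ↔ tau hTF t (f : F ⧸ center F) = f := Iff.rfl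

theorem center_le_fixF (hTF : T ≤ normalizer (F : Set G)) (t : T) : center F ≤ fixF hTF t := by
  intro z hz
  rw [mem_fixF]
  have h1 : (z : F ⧸ center F) = 1 := (QuotientGroup.eq_one_iff z).mpr hz
  rw [h1]
  exact tau_one hTF t

/-- the number of fixed points is a square -/
theorem exists_sq_fix {s : ℕ} (hs : s.Prime) (hZ : Nat.card (center F) = s)
    (hab : ∀ x y : F, x * y * x⁻¹ * y⁻¹ ∈ center F)
    (hTF : T ≤ normalizer (F : Set G)) (hTs : ¬ s ∣ Nat.card T)
    (hTZ : ∀ t ∈ T, ∀ z ∈ (center F).map F.subtype, t * z = z * t) (t : T) :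
    ∃ m, Nat.card {x : F ⧸ center F // tau hTF t x = x} = m ^ 2 := by
  set F0 := fixF hTF t with hF0
  -- the centre of `F0`
  have hcen : center F0 = (center F).subgroupOf F0 := by
    apply le_antisymm
    · rintro ⟨f, hf⟩ hfc
      rw [Subgroup.mem_subgroupOf, Subgroup.mem_center_iff]
      rw [Subgroup.mem_center_iff] at hfc
      intro g
      -- `c g' = [f, g']`
      let c : F → F := fun g' => f * g' * f⁻¹ * g'⁻¹
      have hcm : ∀ u v, c (u * v) = c u * c v := fun u v => Sq.comm_mul_right hab f u v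
      have hc0 : ∀ u ∈ F0, c u = 1 := by
        intro u hu
        have h1 := congrArg Subtype.val (hfc ⟨u, hu⟩)
        have h2 : u * f = f * u := h1
        show f * u * f⁻¹ * u⁻¹ = 1
        rw [← h2]
        group
      have hct : ∀ u, c (alpha hTF t u) = c u := by
        intro u
        have h1 : alpha hTF t (c u) = c u := by
          apply Subtype.ext
          rw [alpha_coe, hTZ t t.2 (c u : G) ⟨c u, hab f u, rfl⟩, mul_inv_cancel_right]
        have h2 : f⁻¹ * alpha hTF t f ∈ center F := by
          have h3 : ((alpha hTF t f : F) : F ⧸ center F) = f := (mem_fixF hTF t f).mp hf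
          exact QuotientGroup.eq.mp h3.symm
        have h3 : alpha hTF t f = f * (f⁻¹ * alpha hTF t f) := by group
        rw [← h1]
        show f * alpha hTF t u * f⁻¹ * (alpha hTF t u)⁻¹ = alpha hTF t (f * u * f⁻¹ * u⁻¹)
        rw [map_mul, map_mul, map_mul, map_inv, map_inv, h3, Sq.comm_mul_left hab,
          show (f⁻¹ * alpha hTF t f) * alpha hTF t u * (f⁻¹ * alpha hTF t f)⁻¹ *
            (alpha hTF t u)⁻¹ = 1 by
              rw [← Subgroup.mem_center_iff.mp h2 (alpha hTF t u)]
              group, mul_one]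
      have hctn : ∀ (k : ℕ) u, c (alpha hTF (t ^ k) u) = c u := by
        intro k
        induction k with
        | zero => intro u; rw [pow_zero, map_one]; rfl
        | succ k ih => intro u; rw [pow_succ', map_mul, MulAut.mul_apply, hct, ih]
      -- the norm of `g`
      let P : ℕ → F := fun k => Nat.rec 1 (fun j p => p * alpha hTF (t ^ j) g) k
      have hP0 : P 0 = 1 := rfl
      have hPs : ∀ k, P (k + 1) = P k * alpha hTF (t ^ k) g := fun k => rfl
      have hcP : ∀ k, c (P k) = c g ^ k := by
        intro k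
        induction k with
        | zero =>
          rw [hP0, pow_zero]
          show f * 1 * f⁻¹ * 1⁻¹ = 1
          group
        | succ k ih => rw [hPs, hcm, ih, hctn, pow_succ]
      have hcommX : ∀ x y : F ⧸ center F, x * y = y * x := by
        intro x y
        induction x using QuotientGroup.induction_on with | H a => ?_
        induction y using QuotientGroup.induction_on with | H b => ?_
        rw [← QuotientGroup.mk_mul, ← QuotientGroup.mk_mul, QuotientGroup.eq]
        have h1 : (a * b)⁻¹ * (b * a) = b⁻¹ * a⁻¹ * b⁻¹⁻¹ * a⁻¹⁻¹ := by group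
        rw [h1]
        exact hab b⁻¹ a⁻¹
      have hτP : ∀ k, tau hTF t (QuotientGroup.mk (P k)) * (QuotientGroup.mk g) =
          (QuotientGroup.mk (P k) : F ⧸ center F) *
            (QuotientGroup.mk (alpha hTF (t ^ k) g) : F ⧸ center F) := by
        intro k
        induction k with
        | zero =>
          rw [hP0, pow_zero, map_one, QuotientGroup.mk_one, tau_one, MulAut.one_apply]
        | succ k ih =>
          have h1 : tau hTF t ((alpha hTF (t ^ k) g : F) : F ⧸ center F) =
              (alpha hTF (t ^ (k + 1)) g : F) := by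
            rw [tau_mk, pow_succ', map_mul, MulAut.mul_apply]
          rw [hPs, QuotientGroup.mk_mul, tau_mul, h1, mul_assoc,
            hcommX _ (g : F ⧸ center F), ← mul_assoc, ih]
      have hPmem : P (Nat.card T) ∈ F0 := by
        rw [hF0, mem_fixF]
        have h1 := hτP (Nat.card T)
        have h2 : t ^ Nat.card T = 1 := pow_card_eq_one'
        rw [h2, map_one, MulAut.one_apply] at h1
        exact mul_right_cancel h1
      have h1 : c g ^ Nat.card T = 1 := by rw [← hcP, hc0 _ hPmem]
      have h2 : c g ^ s = 1 := by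
        have h8 : (⟨c g, hab f g⟩ : center F) ^ Nat.card (center F) = 1 := pow_card_eq_one'
        rw [hZ] at h8
        exact congrArg Subtype.val h8
      have h3 : orderOf (c g) ∣ 1 := by
        rw [← ((Nat.Prime.coprime_iff_not_dvd hs).mpr hTs)]
        exact Nat.dvd_gcd (orderOf_dvd_of_pow_eq_one h2) (orderOf_dvd_of_pow_eq_one h1)
      have h4 : f * g * f⁻¹ * g⁻¹ = 1 := orderOf_eq_one_iff.mp (Nat.dvd_one.mp h3)
      rw [mul_inv_eq_one, mul_inv_eq_iff_eq_mul] at h4
      exact h4.symm
    · rintro ⟨f, hf⟩ hfc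
      rw [Subgroup.mem_center_iff]
      rw [Subgroup.mem_subgroupOf, Subgroup.mem_center_iff] at hfc
      rintro ⟨g, hg⟩
      exact Subtype.ext (hfc g)
  have hZ0 : Nat.card (center F0) = s := by
    rw [hcen, Nat.card_congr (Subgroup.subgroupOfEquivOfLe (center_le_fixF hTF t)).toEquiv, hZ]
  have hab0 : ∀ x y : F0, x * y * x⁻¹ * y⁻¹ ∈ center F0 := by
    intro x y
    rw [hcen, Subgroup.mem_subgroupOf]
    exact hab x y
  obtain ⟨m, hm⟩ := Sq.exists_sq hs hZ0 hab0
  refine ⟨m, ?_⟩
  rw [← hm]
  -- the quotient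
  let π : F0 →* (F ⧸ center F) := (QuotientGroup.mk' (center F)).comp F0.subtype
  have hker : π.ker = center F0 := by
    rw [hcen]
    ext x
    rw [MonoidHom.mem_ker, Subgroup.mem_subgroupOf]
    exact QuotientGroup.eq_one_iff (x : F)
  have hrange : ∀ x, x ∈ π.range ↔ tau hTF t x = x := by
    intro x
    constructor
    · rintro ⟨f, rfl⟩
      exact f.2
    · intro hx
      induction x using QuotientGroup.induction_on with | H f => ?_
      exact ⟨⟨f, hx⟩, rfl⟩
  rw [← hker]
  refine Nat.card_congr ?_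
  exact (Equiv.subtypeEquivRight fun x => (hrange x).symm).trans
    (QuotientGroup.quotientKerEquivRange π).symm.toEquiv

end Tau

end Cfsg.Agent.H555.F3.Core
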