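import Mathlib

/-!
# Counting the orbits of a product of two commuting groups
-/

set_option autoImplicit false
set_option linter.unusedSectionVars false

namespace Cfsg.Agent.H555.F3.Count

open Subgroup

variable {X : Type*} {R : Type*} [Group R] [MulAction R X]

/-- the action of `R × ⟨τ⟩` -/
def phi (τ : Equiv.Perm X) (hcomm : ∀ (a : R) (x : X), τ (a • x) = a • τ x) :
    R × zpowers τ →* Equiv.Perm X :=
  MonoidHom.noncommCoprod (MulAction.toPermHom R X) (zpowers τ).subtype (by
    intro a p
    obtain ⟨p, hp⟩ := p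
    obtain ⟨k, rfl⟩ := Subgroup.mem_zpowers_iff.mp hp
    have h1 : Commute (MulAction.toPermHom R X a) τ := by
      apply Equiv.ext
      intro x
      exact (hcomm a x).symm
    exact h1.zpow_right k)

theorem phi_apply (τ : Equiv.Perm X) (hcomm : ∀ (a : R) (x : X), τ (a • x) = a • τ x)
    (k : R × zpowers τ) (x : X) : phi τ hcomm k x = k.1 • ((k.2 : Equiv.Perm X) x) := rfl

/-- the action of `R × ⟨τ⟩` -/
@[reducible]
def act (τ : Equiv.Perm X) (hcomm : ∀ (a : R) (x : X), τ (a • x) = a • τ x) :
    MulAction (R × zpowers τ) X := MulAction.compHom X (phi τ hcomm)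

theorem card_orbits [Finite X] [Finite R] (τ : Equiv.Perm X)
    (hcomm : ∀ (a : R) (x : X), τ (a • x) = a • τ x) (x0 : X)
    (h0 : ∀ a : R, a • x0 = x0) (hτ0 : τ x0 = x0)
    (hfree : ∀ a : R, a ≠ 1 → ∀ x, a • x = x → x = x0)
    (hcop : (Nat.card R).Coprime (orderOf τ)) {N : ℕ}
    (hN : ∀ p ∈ zpowers τ, p ≠ 1 → Nat.card {x // p x = x} = N) :
    letI := act τ hcomm
    Nat.card (MulAction.orbitRel.Quotient (R × zpowers τ) X) * (Nat.card R * orderOf τ) =
      Nat.card X + (orderOf τ - 1) * N + orderOf τ * (Nat.card R - 1) := by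
  classical
  let _ := act τ hcomm
  have : Fintype X := Fintype.ofFinite X
  have : Fintype R := Fintype.ofFinite R
  have : Fintype (zpowers τ) := Fintype.ofFinite _
  have : Fintype (MulAction.orbitRel.Quotient (R × zpowers τ) X) := Fintype.ofFinite _
  have h1 := MulAction.sum_card_fixedBy_eq_card_orbits_mul_card_group (R × zpowers τ) X
  have hcardτ : Fintype.card (zpowers τ) = orderOf τ := by
    rw [← Nat.card_eq_fintype_card, Nat.card_zpowers]
  have hpx0 : ∀ p ∈ zpowers τ, p x0 = x0 := by
    intro p hp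
    have h2 : zpowers τ ≤ MulAction.stabilizer (Equiv.Perm X) x0 := by
      rw [Subgroup.zpowers_le]
      exact hτ0
    exact h2 hp
  have hcommp : ∀ p ∈ zpowers τ, ∀ (a : R) (x : X), p (a • x) = a • p x := by
    intro p hp a x
    have h2 : zpowers τ ≤ Subgroup.centralizer {MulAction.toPermHom R X a} := by
      rw [Subgroup.zpowers_le, Subgroup.mem_centralizer_singleton_iff]
      apply Equiv.ext
      intro y
      exact hcomm a y
    have h3 := Subgroup.mem_centralizer_singleton_iff.mp (h2 hp)
    exact DFunLike.congr_fun h3 x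
  have h2 : ∀ a : R, a ≠ 1 → ∀ p : zpowers τ,
      Fintype.card (MulAction.fixedBy X ((a, p) : R × zpowers τ)) = 1 := by
    intro a ha p
    rw [Fintype.card_eq_one_iff]
    refine ⟨⟨x0, ?_⟩, ?_⟩
    · rw [MulAction.mem_fixedBy]
      show a • ((p : Equiv.Perm X) x0) = x0
      rw [hpx0 p p.2, h0]
    · rintro ⟨x, hx⟩
      apply Subtype.ext
      show x = x0
      rw [MulAction.mem_fixedBy] at hx
      have h3 : ∀ k : ℕ, a ^ k • (((p : Equiv.Perm X) ^ k) x) = x := by
        intro k
        induction k with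
        | zero => simp
        | succ k ih =>
          have h4 : a • ((p : Equiv.Perm X) x) = x := hx
          rw [pow_succ, pow_succ, Equiv.Perm.mul_apply, mul_smul]
          have h5 : a • ((p : Equiv.Perm X) ^ k) ((p : Equiv.Perm X) x) =
              ((p : Equiv.Perm X) ^ k) (a • ((p : Equiv.Perm X) x)) :=
            (hcommp _ ((zpowers τ).pow_mem p.2 k) a _).symm
          rw [h5, h4, ih]
      have h4 := h3 (orderOf τ)
      have h5 : (p : Equiv.Perm X) ^ orderOf τ = 1 := by
        have h6 : p ^ orderOf τ = 1 := by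
          rw [← hcardτ, ← Nat.card_eq_fintype_card]
          exact pow_card_eq_one'
        exact congrArg Subtype.val h6
      rw [h5, Equiv.Perm.one_apply] at h4
      refine hfree _ ?_ x h4
      intro h6
      apply ha
      have h7 : orderOf a ∣ 1 := by
        rw [← hcop]
        exact Nat.dvd_gcd (orderOf_dvd_natCard a) (orderOf_dvd_of_pow_eq_one h6)
      exact orderOf_eq_one_iff.mp (Nat.dvd_one.mp h7)
  have h3 : ∀ p : zpowers τ, p ≠ 1 →
      Fintype.card (MulAction.fixedBy X ((1, p) : R × zpowers τ)) = N := by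
    intro p hp
    rw [← hN p p.2 (fun h => hp (Subtype.ext h)), Nat.card_eq_fintype_card]
    refine Fintype.card_congr (Equiv.subtypeEquivRight fun x => ?_)
    rw [MulAction.mem_fixedBy]
    show (1 : R) • ((p : Equiv.Perm X) x) = x ↔ _
    rw [one_smul]
  have h4 : Fintype.card (MulAction.fixedBy X ((1, 1) : R × zpowers τ)) = Fintype.card X := by
    have : MulAction.fixedBy X ((1, 1) : R × zpowers τ) = Set.univ := by
      ext x
      rw [MulAction.mem_fixedBy]
      refine ⟨fun _ => Set.mem_univ _, fun _ => ?_⟩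
      show (1 : R) • ((1 : Equiv.Perm X) x) = x
      rw [one_smul, Equiv.Perm.one_apply]
    refine Fintype.card_congr ?_
    rw [this]
    exact Equiv.Set.univ _
  rw [Fintype.sum_prod_type, ← Finset.add_sum_erase Finset.univ _ (Finset.mem_univ (1 : R))] at h1
  have h5 : ∑ p : zpowers τ, Fintype.card (MulAction.fixedBy X ((1, p) : R × zpowers τ)) =
      Fintype.card X + (orderOf τ - 1) * N := by
    rw [← Finset.add_sum_erase Finset.univ _ (Finset.mem_univ (1 : zpowers τ)), h4,
      Finset.sum_congr rfl (fun p hp => h3 p (Finset.ne_of_mem_erase hp)), Finset.sum_const,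
      Finset.card_erase_of_mem (Finset.mem_univ _), Finset.card_univ, hcardτ, smul_eq_mul]
  have h6 : ∑ a ∈ Finset.univ.erase (1 : R), ∑ p : zpowers τ,
      Fintype.card (MulAction.fixedBy X ((a, p) : R × zpowers τ)) =
        (Fintype.card R - 1) * orderOf τ := by
    rw [Finset.sum_congr rfl (fun a ha => Finset.sum_congr rfl
      fun p _ => h2 a (Finset.ne_of_mem_erase ha) p), Finset.sum_const, Finset.sum_const,
      Finset.card_erase_of_mem (Finset.mem_univ _), Finset.card_univ, Finset.card_univ, hcardτ,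
      smul_eq_mul, smul_eq_mul, mul_one]
  rw [h5, h6, Fintype.card_prod, hcardτ] at h1
  rw [Nat.card_eq_fintype_card, Nat.card_eq_fintype_card, Nat.card_eq_fintype_card, ← h1]
  ring

end Cfsg.Agent.H555.F3.Count
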