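import Mathlib

/-!
# Lower bounds for the dimension of the commutant of commuting operators of finite order
-/

set_option autoImplicit false
set_option linter.unusedSectionVars false

namespace Cfsg.Agent.H555.F3.Lin

open Module Polynomial

section Any

variable {E : Type*} [Field E] {V : Type*} [AddCommGroup V] [Module E V] [FiniteDimensional E V]

/-- The commutant of an operator has dimension at least the dimension of the space. -/
theorem finrank_le_commutant (T : Module.End E V) (C : Submodule E (Module.End E V))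
    (hC : ∀ S : Module.End E V, S * T = T * S → S ∈ C) : finrank E V ≤ finrank E C := by
  classical
  have htor : Module.IsTorsion E[X] (Module.AEval' T) :=
    Module.AEval.isTorsion_of_finiteDimensional E V T
  obtain ⟨ι, _, p, hp, e, ⟨f⟩⟩ := Module.equiv_directSum_of_isTorsion htor
  let A := ∀ i : ι, E[X] ⧸ (Ideal.span {p i ^ e i} : Ideal E[X])
  let g : Module.AEval' T ≃ₗ[E[X]] A := f ≪≫ₗ DirectSum.linearEquivFunOnFintype _ _ _
  let o : V ≃ₗ[E] Module.AEval' T := Module.AEval'.of T
  have ho : ∀ v, o (T v) = (X : E[X]) • o v := fun v => (Module.AEval'.X_smul_of T v).symm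
  let m : V → (Module.AEval' T →ₗ[E[X]] Module.AEval' T) := fun v =>
    g.symm.toLinearMap ∘ₗ (LinearMap.mulLeft E[X] (g (o v))) ∘ₗ g.toLinearMap
  have hm : ∀ v x, m v x = g.symm (g (o v) * g x) := fun v x => rfl
  have hC' : ∀ (c : E) (y : Module.AEval' T), c • y = (Polynomial.C c : E[X]) • y := by
    intro c y
    exact (Module.AEval.C_smul T c y).symm
  let θ : V →ₗ[E] Module.End E V :=
    { toFun := fun v => o.symm.toLinearMap ∘ₗ ((m v).restrictScalars E) ∘ₗ o.toLinearMap
      map_add' := by
        intro a b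
        apply LinearMap.ext
        intro x
        show o.symm (g.symm (g (o (a + b)) * g (o x))) =
          o.symm (g.symm (g (o a) * g (o x))) + o.symm (g.symm (g (o b) * g (o x)))
        rw [map_add, map_add, add_mul, map_add, map_add]
      map_smul' := by
        intro c a
        apply LinearMap.ext
        intro x
        show o.symm (g.symm (g (o (c • a)) * g (o x))) =
          c • o.symm (g.symm (g (o a) * g (o x)))
        rw [map_smul, hC', map_smul, smul_mul_assoc, map_smul, ← hC', map_smul] }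
  have hθ : ∀ v x, θ v x = o.symm (g.symm (g (o v) * g (o x))) := fun v x => rfl
  have hinj : Function.Injective θ := by
    intro a b hab
    have h1 : θ a (o.symm (g.symm 1)) = θ b (o.symm (g.symm 1)) := by rw [hab]
    rw [hθ, hθ, LinearEquiv.apply_symm_apply, LinearEquiv.apply_symm_apply, mul_one, mul_one,
      LinearEquiv.symm_apply_apply, LinearEquiv.symm_apply_apply, LinearEquiv.symm_apply_apply,
      LinearEquiv.symm_apply_apply] at h1
    exact h1
  have hmem : ∀ v, θ v ∈ C := by
    intro v
    apply hC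
    apply LinearMap.ext
    intro x
    show θ v (T x) = T (θ v x)
    apply o.injective
    rw [ho, hθ, hθ, LinearEquiv.apply_symm_apply, LinearEquiv.apply_symm_apply, ho, map_smul,
      mul_smul_comm, map_smul]
  exact LinearMap.finrank_le_finrank_of_injective (f := θ.codRestrict C hmem)
    (fun a b hab => hinj (congrArg Subtype.val hab))

/-- The kernel of a nilpotent operator. -/
theorem finrank_le_mul_ker {W : Type*} [AddCommGroup W] [Module E W] [FiniteDimensional E W]
    (f : Module.End E W) {n : ℕ} (hf : f ^ n = 0) :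
    finrank E W ≤ n * finrank E (LinearMap.ker f) := by
  have h : ∀ k : ℕ, finrank E (LinearMap.ker (f ^ k)) ≤ k * finrank E (LinearMap.ker f) := by
    intro k
    induction k with
    | zero =>
      rw [pow_zero, Nat.zero_mul, Nat.le_zero]
      rw [show (1 : Module.End E W) = LinearMap.id from rfl, LinearMap.ker_id]
      exact finrank_bot E W
    | succ k ih =>
      let g : LinearMap.ker (f ^ (k + 1)) →ₗ[E] LinearMap.ker f :=
        ((f ^ k).comp (LinearMap.ker (f ^ (k + 1))).subtype).codRestrict (LinearMap.ker f) (by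
          rintro ⟨x, hx⟩
          rw [LinearMap.mem_ker] at hx ⊢
          show f ((f ^ k) x) = 0
          rw [← Module.End.mul_apply, ← pow_succ']
          exact hx)
      have h1 := LinearMap.finrank_range_add_finrank_ker g
      have h2 : finrank E (LinearMap.range g) ≤ finrank E (LinearMap.ker f) :=
        Submodule.finrank_le _
      have h3 : finrank E (LinearMap.ker g) ≤ finrank E (LinearMap.ker (f ^ k)) := by
        let i : LinearMap.ker g →ₗ[E] LinearMap.ker (f ^ k) :=
          ((LinearMap.ker (f ^ (k + 1))).subtype.comp (LinearMap.ker g).subtype).codRestrict _ (by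
            rintro ⟨x, hx⟩
            rw [LinearMap.mem_ker] at hx ⊢
            exact congrArg Subtype.val hx)
        refine LinearMap.finrank_le_finrank_of_injective (f := i) ?_
        intro a b hab
        have h4 : ((i a : LinearMap.ker (f ^ k)) : W) = i b := by rw [hab]
        exact Subtype.ext (Subtype.ext h4)
      rw [← h1, Nat.succ_mul, add_comm]
      exact Nat.add_le_add (h3.trans ih) h2
  have h1 := h n
  rw [hf, LinearMap.ker_zero, finrank_top] at h1
  exact h1

/-- An operator of order `n` in characteristic `n`. -/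
theorem sq_le_of_char {n : ℕ} [hn : Fact n.Prime] [CharP E n] (T : Module.End E V)
    (hT : T ^ n = 1) (C : Submodule E (Module.End E V))
    (hC : ∀ S : Module.End E V, S * T = T * S → S ∈ C) :
    finrank E V ^ 2 ≤ n * finrank E C := by
  have hchar : ∀ (A : Type _) [Ring A] [Algebra E A] (a b : A), Commute a b →
      (a - b) ^ n = a ^ n - b ^ n := by
    intro A _ _ a b hab
    by_cases hA : Nontrivial A
    · have : CharP A n := charP_of_injective_algebraMap (algebraMap E A).injective n
      exact sub_pow_char_of_commute _ hab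
    · rw [not_nontrivial_iff_subsingleton] at hA
      exact Subsingleton.elim _ _
  let N : Module.End E V := T - 1
  have hN : N ^ n = 0 := by
    rw [hchar _ T 1 (Commute.one_right T), hT, one_pow, sub_self]
  let L : Module.End E (Module.End E V) := LinearMap.mulLeft E N
  let R : Module.End E (Module.End E V) := LinearMap.mulRight E N
  have hLR : Commute L R := LinearMap.commute_mulLeft_right N N
  have hL : L ^ n = 0 := by
    show (LinearMap.mulLeft E N) ^ n = 0
    rw [LinearMap.pow_mulLeft, hN, LinearMap.mulLeft_zero_eq_zero]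
  have hR : R ^ n = 0 := by
    show (LinearMap.mulRight E N) ^ n = 0
    rw [LinearMap.pow_mulRight, hN, LinearMap.mulRight_zero_eq_zero]
  have h0 : (L - R) ^ n = 0 := by rw [hchar _ L R hLR, hL, hR, sub_self]
  have h1 := finrank_le_mul_ker (L - R) h0
  rw [Module.finrank_linearMap, ← sq] at h1
  refine h1.trans (Nat.mul_le_mul_left n (Submodule.finrank_mono ?_))
  intro S hS
  apply hC
  rw [LinearMap.mem_ker] at hS
  have h2 : N * S - S * N = 0 := hS
  have h3 : (T - 1) * S = S * (T - 1) := sub_eq_zero.mp h2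
  rw [sub_mul, mul_sub, one_mul, mul_one] at h3
  exact (sub_left_inj.mp h3).symm

end Any

section Closed

variable {E : Type*} [Field E] [IsAlgClosed E] {V : Type*} [AddCommGroup V] [Module E V]
  [FiniteDimensional E V]

/-- the eigenspace decomposition of an operator with `T ^ r = 1`, `r` invertible -/
theorem exists_blocks [DecidableEq E] (T : Module.End E V) {r : ℕ} (hr : (r : E) ≠ 0) (hT : T ^ r = 1) :
    ∃ Φ : (∀ μ : (Polynomial.nthRootsFinset r (1 : E)), T.eigenspace (μ : E)) ≃ₗ[E] V,
      (∀ (μ : Polynomial.nthRootsFinset r (1 : E)) (v : T.eigenspace (μ : E)),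
        Φ (Pi.single μ v) = v) ∧
        ∀ w, T (Φ w) = Φ fun μ => (μ : E) • w μ := by
  have hr0 : 0 < r := Nat.pos_of_ne_zero (by rintro rfl; exact hr Nat.cast_zero)
  have hss : T.IsSemisimple := by
    apply Module.End.isSemisimple_of_squarefree_aeval_eq_zero (p := Polynomial.X ^ r - 1)
    · exact (Polynomial.X_pow_sub_one_separable_iff.mpr hr).squarefree
    · rw [map_sub, map_pow, Polynomial.aeval_X, map_one, sub_eq_zero, hT]
  have htop : ⨆ μ : E, T.eigenspace μ = ⊤ := by
    rw [← Module.End.iSup_maxGenEigenspace_eq_top T]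
    exact iSup_congr fun μ => (hss.isFinitelySemisimple.maxGenEigenspace_eq_eigenspace μ).symm
  let S : Finset E := Polynomial.nthRootsFinset r (1 : E)
  have hpow : ∀ (μ : E) (v : V), T v = μ • v → ∀ n : ℕ, (T ^ n) v = μ ^ n • v := by
    intro μ v hv n
    induction n with
    | zero => simp
    | succ n ih => rw [pow_succ', Module.End.mul_apply, ih, map_smul, hv, smul_smul, pow_succ]
  have hbot : ∀ μ : E, μ ∉ S → T.eigenspace μ = ⊥ := by
    intro μ hμ
    rw [eq_bot_iff]
    intro v hv
    rw [Module.End.mem_eigenspace_iff] at hv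
    rw [Submodule.mem_bot]
    by_contra hv0
    apply hμ
    rw [Polynomial.mem_nthRootsFinset hr0]
    have h2 := hpow μ v hv r
    rw [hT, Module.End.one_apply] at h2
    have h3 : (μ ^ r - 1) • v = 0 := by rw [sub_smul, one_smul, ← h2, sub_self]
    exact sub_eq_zero.mp ((smul_eq_zero.mp h3).resolve_right hv0)
  have htop' : ⨆ μ : S, T.eigenspace (μ : E) = ⊤ := by
    rw [eq_top_iff, ← htop]
    refine iSup_le fun μ => ?_
    by_cases h : μ ∈ S
    · exact le_iSup (fun μ : S => T.eigenspace (μ : E)) ⟨μ, h⟩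
    · rw [hbot μ h]; exact bot_le
  have hind : iSupIndep fun μ : S => T.eigenspace (μ : E) :=
    (T.eigenspaces_iSupIndep).comp Subtype.val_injective
  have hint := DirectSum.isInternal_submodule_of_iSupIndep_of_iSup_eq_top hind htop'
  let Φ : (∀ μ : S, T.eigenspace (μ : E)) ≃ₗ[E] V :=
    (DirectSum.linearEquivFunOnFintype E S fun μ : S => T.eigenspace (μ : E)).symm ≪≫ₗ
      LinearEquiv.ofBijective (DirectSum.coeLinearMap fun μ : S => T.eigenspace (μ : E)) hint
  have hΦs : ∀ (μ : S) (v : T.eigenspace (μ : E)), Φ (Pi.single μ v) = v := by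
    intro μ v
    show (DirectSum.coeLinearMap fun μ : S => T.eigenspace (μ : E))
      ((DirectSum.linearEquivFunOnFintype E S fun μ : S => T.eigenspace (μ : E)).symm
        (Pi.single μ v)) = v
    rw [DirectSum.linearEquivFunOnFintype_symm_single, DirectSum.coeLinearMap_lof]
  refine ⟨Φ, hΦs, ?_⟩
  intro w
  have h2 : w = ∑ μ : S, Pi.single μ (w μ) := (Finset.univ_sum_single w).symm
  have h3 : (fun μ : S => (μ : E) • w μ) = ∑ μ : S, Pi.single μ ((μ : E) • w μ) :=
    (Finset.univ_sum_single _).symm
  rw [h3]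
  conv_lhs => rw [h2]
  rw [map_sum, map_sum, map_sum]
  refine Finset.sum_congr rfl fun μ _ => ?_
  rw [hΦs, hΦs]
  exact Module.End.mem_eigenspace_iff.mp (w μ).2

section Blocks

variable {ι : Type*} [Fintype ι] [DecidableEq ι] {U : ι → Submodule E V}
  (Φ : (∀ i : ι, U i) ≃ₗ[E] V)

/-- block diagonal operators -/
noncomputable def diag : (∀ i : ι, Module.End E (U i)) →ₗ[E] Module.End E V where
  toFun φ := Φ.toLinearMap ∘ₗ (LinearMap.pi fun μ => φ μ ∘ₗ LinearMap.proj μ) ∘ₗ
        Φ.symm.toLinearMap
  map_add' := by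
    intro a b
    apply LinearMap.ext
    intro v
    show Φ _ = Φ _ + Φ _
    rw [← map_add]
    rfl
  map_smul' := by
    intro c a
    apply LinearMap.ext
    intro v
    show Φ _ = c • Φ _
    rw [← map_smul]
    rfl

theorem diag_apply (φ : ∀ i : ι, Module.End E (U i)) (w : ∀ i : ι, U i) :
    diag Φ φ (Φ w) = Φ fun i => φ i (w i) := by
  show Φ _ = _
  congr 1
  funext μ
  show φ μ (Φ.symm (Φ w) μ) = φ μ (w μ)
  rw [LinearEquiv.symm_apply_apply]

theorem diag_injective : Function.Injective (diag Φ) := by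
  intro a b hab
  funext μ
  apply LinearMap.ext
  intro v
  have h2 : diag Φ a (Φ (Pi.single μ v)) = diag Φ b (Φ (Pi.single μ v)) := by rw [hab]
  rw [diag_apply, diag_apply] at h2
  have h3 := congrFun (Φ.injective h2) μ
  simpa using h3

include Φ in
theorem finrank_eq_sum : finrank E V = ∑ i : ι, finrank E (U i) := by
  rw [← Φ.finrank_eq, Module.finrank_pi_fintype]

theorem sum_finrank_le (K : ∀ i : ι, Submodule E (Module.End E (U i))) (C : Submodule E (Module.End E V))
    (h : ∀ φ : ∀ i : ι, Module.End E (U i), (∀ i, φ i ∈ K i) → diag Φ φ ∈ C) :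
    ∑ i : ι, finrank E (K i) ≤ finrank E C := by
  let θ : (∀ i : ι, K i) →ₗ[E] Module.End E V :=
    (diag Φ) ∘ₗ (LinearMap.pi fun i => (K i).subtype ∘ₗ LinearMap.proj i)
  have hθ : ∀ w, θ w ∈ C := fun w => h _ fun i => (w i).2
  have hinj : Function.Injective θ := by
    intro a b hab
    have h1 := diag_injective Φ hab
    funext i
    exact Subtype.ext (congrFun h1 i)
  have h1 := LinearMap.finrank_le_finrank_of_injective (f := θ.codRestrict C hθ)
    (fun a b hab => hinj (congrArg Subtype.val hab))
  have hfree : ∀ i, Module.Free E (K i) := fun i => Module.Free.of_divisionRing E (K i)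
  have hfin : ∀ i, Module.Finite E (K i) := fun i => inferInstance
  have h2 : finrank E (∀ i : ι, K i) = ∑ i : ι, finrank E (K i) := Module.finrank_pi_fintype E
  rwa [h2] at h1

include Φ in
theorem finrank_le_sum_sq (hΦ : ∀ (i : ι) (v : U i), Φ (Pi.single i v) = v)
    (D : Submodule E (Module.End E V))
    (h : ∀ S ∈ D, ∀ i, ∀ v ∈ U i, S v ∈ U i) :
    finrank E D ≤ ∑ i : ι, finrank E (U i) ^ 2 := by
  let θ : D →ₗ[E] (∀ i : ι, Module.End E (U i)) :=
    { toFun := fun S i => (S : Module.End E V).restrict (h S S.2 i)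
      map_add' := fun a b => rfl
      map_smul' := fun a b => rfl }
  have hinj : Function.Injective θ := by
    intro a b hab
    apply Subtype.ext
    apply LinearMap.ext
    intro v
    obtain ⟨w, rfl⟩ := Φ.surjective v
    have h2 : w = ∑ i : ι, Pi.single i (w i) := (Finset.univ_sum_single w).symm
    rw [h2, map_sum, map_sum, map_sum]
    refine Finset.sum_congr rfl fun i _ => ?_
    rw [hΦ]
    have h3 := congrFun hab i
    have h4 : ((θ a i (w i) : U i) : V) = θ b i (w i) := by rw [h3]
    exact h4
  have h1 := LinearMap.finrank_le_finrank_of_injective hinj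
  rw [Module.finrank_pi_fintype] at h1
  refine h1.trans (le_of_eq ?_)
  refine Finset.sum_congr rfl fun i _ => ?_
  rw [Module.finrank_linearMap, sq]

end Blocks

theorem card_nthRoots_le (r : ℕ) : Fintype.card (Polynomial.nthRootsFinset r (1 : E)) ≤ r := by
  classical
  rw [Fintype.card_coe, Polynomial.nthRootsFinset_def]
  exact (Multiset.toFinset_card_le _).trans (Polynomial.card_nthRoots r 1)

/-- An operator of order dividing an invertible `n`. -/
theorem sq_le_of_ne {n : ℕ} (hn : (n : E) ≠ 0) (T : Module.End E V)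
    (hT : T ^ n = 1) (C : Submodule E (Module.End E V))
    (hC : ∀ S : Module.End E V, S * T = T * S → S ∈ C) :
    finrank E V ^ 2 ≤ n * finrank E C := by
  classical
  obtain ⟨Φ, hΦ, hT'⟩ := exists_blocks T hn hT
  have h1 : ∑ μ : Polynomial.nthRootsFinset n (1 : E),
      finrank E (⊤ : Submodule E (Module.End E (T.eigenspace (μ : E)))) ≤ finrank E C := by
    refine sum_finrank_le Φ (fun _ => ⊤) C fun φ _ => ?_
    apply hC
    apply LinearMap.ext
    intro v
    obtain ⟨w, rfl⟩ := Φ.surjective v
    rw [Module.End.mul_apply, Module.End.mul_apply, hT', diag_apply, diag_apply, hT']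
    congr 1
    funext μ
    rw [map_smul]
  rw [finrank_eq_sum Φ]
  have h2 : ∑ μ : Polynomial.nthRootsFinset n (1 : E), finrank E (T.eigenspace (μ : E)) ^ 2 ≤
      finrank E C := by
    refine le_trans (le_of_eq ?_) h1
    refine Finset.sum_congr rfl fun μ _ => ?_
    rw [finrank_top, Module.finrank_linearMap, sq]
  refine (sq_sum_le_card_mul_sum_sq).trans ?_
  refine Nat.mul_le_mul ?_ h2
  rw [Finset.card_univ]
  exact card_nthRoots_le n

/-- An operator of prime order. -/
theorem sq_le {n : ℕ} (hn : n.Prime) (T : Module.End E V)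
    (hT : T ^ n = 1) (C : Submodule E (Module.End E V))
    (hC : ∀ S : Module.End E V, S * T = T * S → S ∈ C) :
    finrank E V ^ 2 ≤ n * finrank E C := by
  by_cases h : (n : E) = 0
  · have : Fact n.Prime := ⟨hn⟩
    have hc : CharP E n := by
      obtain ⟨p, hp⟩ := CharP.exists E
      have h1 : p ∣ n := (CharP.cast_eq_zero_iff E p n).mp h
      rcases CharP.char_is_prime_or_zero E p with h2 | h2
      · rwa [(Nat.prime_dvd_prime_iff_eq h2 hn).mp h1] at hp
      · rw [h2, zero_dvd_iff] at h1
        exact absurd h1 hn.ne_zero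
    exact sq_le_of_char T hT C hC
  · exact sq_le_of_ne h T hT C hC

/-- Lower bound for the commutant of two commuting operators. -/
theorem comm_lower (T0 T1 : Module.End E V) {r n : ℕ} (hr : (r : E) ≠ 0) (h0 : T0 ^ r = 1)
    (hn : n.Prime) (h1 : T1 ^ n = 1) (hcomm : T1 * T0 = T0 * T1)
    (hfix : ∀ v, T0 v = v → T1 v = v)
    (C D : Submodule E (Module.End E V))
    (hC : ∀ S : Module.End E V, S * T0 = T0 * S → S * T1 = T1 * S → S ∈ C)
    (hD : ∀ S ∈ D, S * T0 = T0 * S) :
    finrank E D + (n - 1) * finrank E (T0.eigenspace 1) ^ 2 ≤ n * finrank E C := by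
  classical
  obtain ⟨Φ, hΦ, hT'⟩ := exists_blocks T0 hr h0
  have hr0 : 0 < r := Nat.pos_of_ne_zero (by rintro rfl; exact hr Nat.cast_zero)
  let ι := Polynomial.nthRootsFinset r (1 : E)
  let U : ι → Submodule E V := fun μ => T0.eigenspace (μ : E)
  have hinv : ∀ (S : Module.End E V), S * T0 = T0 * S → ∀ (μ : ι), ∀ v ∈ U μ, S v ∈ U μ := by
    intro S hS μ v hv
    rw [Module.End.mem_eigenspace_iff] at hv ⊢
    rw [← Module.End.mul_apply, ← hS, Module.End.mul_apply, hv, map_smul]
  let τ : ∀ μ : ι, Module.End E (U μ) := fun μ => T1.restrict (hinv T1 hcomm μ)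
  have hτv : ∀ (μ : ι) (v : U μ), ((τ μ v : U μ) : V) = T1 v := fun μ v => rfl
  have hτpow : ∀ (μ : ι) (k : ℕ) (v : U μ), (((τ μ ^ k) v : U μ) : V) = (T1 ^ k) v := by
    intro μ k
    induction k with
    | zero => intro v; rfl
    | succ k ih =>
      intro v
      rw [pow_succ, pow_succ, Module.End.mul_apply, Module.End.mul_apply, ih, hτv]
  have hτ : ∀ μ : ι, τ μ ^ n = 1 := by
    intro μ
    apply LinearMap.ext
    intro v
    apply Subtype.ext
    rw [hτpow, h1]
    rfl
  let K : ∀ μ : ι, Submodule E (Module.End E (U μ)) := fun μ =>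
    { carrier := {S | S * τ μ = τ μ * S}
      add_mem' := by
        intro a b ha hb
        show (a + b) * τ μ = τ μ * (a + b)
        rw [add_mul, mul_add, ha, hb]
      zero_mem' := by
        show 0 * τ μ = τ μ * 0
        rw [zero_mul, mul_zero]
      smul_mem' := by
        intro c a ha
        show c • a * τ μ = τ μ * c • a
        rw [smul_mul_assoc, mul_smul_comm, ha] }
  have hK : ∀ μ : ι, finrank E (U μ) ^ 2 ≤ n * finrank E (K μ) := fun μ =>
    sq_le hn (τ μ) (hτ μ) (K μ) (fun S hS => hS)
  have h2 : ∑ μ : ι, finrank E (K μ) ≤ finrank E C := by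
    refine sum_finrank_le Φ K C fun φ hφ => ?_
    apply hC
    · apply LinearMap.ext
      intro v
      obtain ⟨w, rfl⟩ := Φ.surjective v
      rw [Module.End.mul_apply, Module.End.mul_apply, hT', diag_apply, diag_apply, hT']
      congr 1
      funext μ
      rw [map_smul]
    · have hT1 : ∀ w, T1 (Φ w) = Φ fun μ => τ μ (w μ) := by
        intro w
        have h4 : w = ∑ i : ι, Pi.single i (w i) := (Finset.univ_sum_single w).symm
        have h5 : (fun μ => τ μ (w μ)) = ∑ i : ι, Pi.single i (τ i (w i)) :=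
          (Finset.univ_sum_single _).symm
        rw [h5]
        conv_lhs => rw [h4]
        rw [map_sum, map_sum, map_sum]
        refine Finset.sum_congr rfl fun μ _ => ?_
        rw [hΦ, hΦ, hτv]
      apply LinearMap.ext
      intro v
      obtain ⟨w, rfl⟩ := Φ.surjective v
      rw [Module.End.mul_apply, Module.End.mul_apply, hT1, diag_apply, diag_apply, hT1]
      congr 1
      funext μ
      exact congrArg (fun S => S (w μ)) (hφ μ)
  have h3 : finrank E D ≤ ∑ μ : ι, finrank E (U μ) ^ 2 :=
    finrank_le_sum_sq Φ hΦ D fun S hS μ v hv => hinv S (hD S hS) μ v hv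
  let o : ι := ⟨1, (Polynomial.mem_nthRootsFinset hr0 1).mpr (one_pow r)⟩
  have hK1 : finrank E (K o) = finrank E (U o) ^ 2 := by
    have h4 : K o = ⊤ := by
      rw [eq_top_iff]
      intro S _
      show S * τ o = τ o * S
      have h5 : τ o = 1 := by
        apply LinearMap.ext
        intro v
        apply Subtype.ext
        rw [hτv]
        refine hfix v ?_
        have h6 := Module.End.mem_eigenspace_iff.mp v.2
        rw [show ((o : ι) : E) = 1 from rfl, one_smul] at h6
        exact h6
      rw [h5, mul_one, one_mul]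
    rw [h4, finrank_top, Module.finrank_linearMap, sq]
  have h4 : ∑ μ : ι, finrank E (U μ) ^ 2 + (n - 1) * finrank E (U o) ^ 2 ≤
      n * ∑ μ : ι, finrank E (K μ) := by
    rw [← Finset.add_sum_erase Finset.univ (fun μ => finrank E (U μ) ^ 2) (Finset.mem_univ o),
      ← Finset.add_sum_erase Finset.univ (fun μ => finrank E (K μ)) (Finset.mem_univ o), mul_add,
      hK1, Finset.mul_sum]
    have h5 : ∑ μ ∈ Finset.univ.erase o, finrank E (U μ) ^ 2 ≤
        ∑ μ ∈ Finset.univ.erase o, n * finrank E (K μ) := Finset.sum_le_sum fun μ _ => hK μ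
    have h6 : n * finrank E (U o) ^ 2 = finrank E (U o) ^ 2 + (n - 1) * finrank E (U o) ^ 2 := by
      obtain ⟨k, rfl⟩ : ∃ k, n = k + 1 := ⟨n - 1, by have := hn.pos; omega⟩
      rw [Nat.add_sub_cancel]
      ring
    rw [h6]
    omega
  calc finrank E D + (n - 1) * finrank E (T0.eigenspace 1) ^ 2
      ≤ ∑ μ : ι, finrank E (U μ) ^ 2 + (n - 1) * finrank E (U o) ^ 2 :=
        Nat.add_le_add_right h3 _
    _ ≤ n * ∑ μ : ι, finrank E (K μ) := h4
    _ ≤ n * finrank E C := Nat.mul_le_mul_left n h2

/-- The dimension of the fixed space. -/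
theorem mult_aux (T0 : Module.End E V) {r : ℕ} (hr : (r : E) ≠ 0) (h0 : T0 ^ r = 1)
    (C : Submodule E (Module.End E V)) (hC : ∀ S : Module.End E V, S * T0 = T0 * S → S ∈ C)
    {o : ℕ} (hle : finrank E C ≤ o) (ho : o * r = finrank E V ^ 2 + (r - 1)) :
    finrank E V ≤ r * finrank E (T0.eigenspace 1) + (r - 1) := by
  classical
  obtain ⟨Φ, hΦ, hT'⟩ := exists_blocks T0 hr h0
  have hr0 : 0 < r := Nat.pos_of_ne_zero (by rintro rfl; exact hr Nat.cast_zero)
  let ι := Polynomial.nthRootsFinset r (1 : E)
  let U : ι → Submodule E V := fun μ => T0.eigenspace (μ : E)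
  have h2 : ∑ μ : ι, finrank E (⊤ : Submodule E (Module.End E (U μ))) ≤ finrank E C := by
    refine sum_finrank_le Φ (fun _ => ⊤) C fun φ _ => ?_
    apply hC
    apply LinearMap.ext
    intro v
    obtain ⟨w, rfl⟩ := Φ.surjective v
    rw [Module.End.mul_apply, Module.End.mul_apply, hT', diag_apply, diag_apply, hT']
    congr 1
    funext μ
    rw [map_smul]
  have h3 : ∑ μ : ι, finrank E (U μ) ^ 2 ≤ o := by
    refine le_trans (le_of_eq ?_) (h2.trans hle)
    refine Finset.sum_congr rfl fun μ _ => ?_
    rw [finrank_top, Module.finrank_linearMap, sq]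
  let i1 : ι := ⟨1, (Polynomial.mem_nthRootsFinset hr0 1).mpr (one_pow r)⟩
  set a := finrank E (T0.eigenspace 1) with ha
  have hU1 : finrank E (U i1) = a := rfl
  rw [← Finset.add_sum_erase Finset.univ (fun μ => finrank E (U μ) ^ 2) (Finset.mem_univ i1)]
    at h3
  have h4 : finrank E V = a + ∑ μ ∈ Finset.univ.erase i1, finrank E (U μ) := by
    rw [finrank_eq_sum Φ]
    exact (Finset.add_sum_erase Finset.univ (fun μ => finrank E (U μ)) (Finset.mem_univ i1)).symm
  have h5 : (∑ μ ∈ Finset.univ.erase i1, finrank E (U μ)) ^ 2 ≤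
      (r - 1) * ∑ μ ∈ Finset.univ.erase i1, finrank E (U μ) ^ 2 := by
    refine (sq_sum_le_card_mul_sum_sq).trans ?_
    refine Nat.mul_le_mul_right _ ?_
    rw [Finset.card_erase_of_mem (Finset.mem_univ i1), Finset.card_univ]
    exact Nat.sub_le_sub_right (card_nthRoots_le r) 1
  set b := ∑ μ ∈ Finset.univ.erase i1, finrank E (U μ) with hb
  set c := ∑ μ ∈ Finset.univ.erase i1, finrank E (U μ) ^ 2 with hc
  rw [hU1] at h3
  obtain ⟨t, rfl⟩ : ∃ t, r = t + 1 := ⟨r - 1, by omega⟩
  rw [Nat.add_sub_cancel] at ho h5 ⊢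
  rw [h4] at ho ⊢
  -- a² + c ≤ o, b² ≤ t c, o (t+1) = (a+b)² + t
  have h6 : t * ((a ^ 2 + c) * (t + 1)) ≤ t * ((a + b) ^ 2 + t) := by
    rw [← ho]
    exact Nat.mul_le_mul_left _ (Nat.mul_le_mul_right _ h3)
  by_contra hcon
  push Not at hcon
  -- b > t a + t
  have h7 : t * a + t + 1 ≤ b := by nlinarith
  obtain ⟨e, he⟩ : ∃ e, b = t * a + t + 1 + e := ⟨b - (t * a + t + 1), by omega⟩
  rw [he] at h5 h6
  nlinarith [Nat.zero_le (e * t), Nat.zero_le (e ^ 2), Nat.zero_le (t * a * e),
    Nat.mul_le_mul_right (t + 1) h5]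

end Closed

end Cfsg.Agent.H555.F3.Lin
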