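import Cfsg.Agent.H555.F3.Core

/-!
# A group centralising `R` and trivial on the fixed points of `R`: the theorem
-/

set_option autoImplicit false
set_option linter.unusedSectionVars false

namespace Cfsg.Agent.H555.F3.Main

open Module Subgroup Cfsg.Agent.H575 Cfsg.Agent.H575.Dim Cfsg.Agent.H575.ExtraIrr
  Cfsg.Agent.H575.Fix Cfsg.Agent.H555.F3.Orb Cfsg.Agent.H555.F3.Lin Cfsg.Agent.H555.F3.Arith
  Cfsg.Agent.H555.F3.Core
open scoped commutatorElement

section

variable {E : Type*} [Field E] {V : Type*} [AddCommGroup V] [Module E V]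

/-- the common commutant of two operators -/
def Cm (A B : Module.End E V) : Submodule E (Module.End E V) where
  carrier := {S | S * A = A * S ∧ S * B = B * S}
  add_mem' := by
    rintro a b ⟨h1, h2⟩ ⟨h3, h4⟩
    exact ⟨by rw [add_mul, mul_add, h1, h3], by rw [add_mul, mul_add, h2, h4]⟩
  zero_mem' := ⟨by rw [zero_mul, mul_zero], by rw [zero_mul, mul_zero]⟩
  smul_mem' := by
    rintro c a ⟨h1, h2⟩
    exact ⟨by rw [smul_mul_assoc, mul_smul_comm, h1], by rw [smul_mul_assoc, mul_smul_comm, h2]⟩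

theorem mem_Cm {A B S : Module.End E V} : S ∈ Cm A B ↔ S * A = A * S ∧ S * B = B * S := Iff.rfl

end

variable {E : Type*} [Field E] [IsAlgClosed E] {G V : Type*} [Group G] [Finite G]
  [AddCommGroup V] [Module E V] [FiniteDimensional E V]
  {ρ : Representation E G V} {F R : Subgroup G} {r s : ℕ}

theorem exists_gen (h : RD ρ F R r s) : ∃ a0 : R, ∀ a : R, ∃ n : ℕ, a0 ^ n = a := by
  have hp : Fact (Nat.card R).Prime := ⟨h.hR ▸ h.hr⟩
  have hnt : Nontrivial R := Finite.one_lt_card_iff_nontrivial.mp (hp.out.one_lt)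
  obtain ⟨a0, ha0⟩ := exists_ne (1 : R)
  refine ⟨a0, fun a => ?_⟩
  have h8 : a ∈ Subgroup.zpowers a0 := mem_zpowers_of_prime_card rfl ha0
  rw [← mem_powers_iff_mem_zpowers] at h8
  exact h8

theorem rho_one (h : RD ρ F R r s) {T : Subgroup G} (hTF : T ≤ normalizer (F : Set G))
    (hTs : ¬ s ∣ Nat.card T)
    (hTZ : ∀ t ∈ T, ∀ z ∈ (center F).map F.subtype, t * z = z * t)
    (hfix : fix ρ R ≠ ⊥) (hT : ∀ t ∈ T, ∀ v ∈ fix ρ R, ρ t v = v) {t : T}
    (ht : tau hTF t = 1) : ρ (t : G) = 1 := by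
  have h1 : ∀ f : F, (t : G) * f = f * t := by
    intro f
    have h2 := congrArg Subtype.val (alpha_eq_of_tau h.hs h.hZ hTF hTs hTZ ht f)
    rw [alpha_coe] at h2
    exact mul_inv_eq_iff_eq_mul.mp h2
  obtain ⟨c, hc⟩ := h.hirr.scalar (ρ (t : G)) fun f v => by
    show ρ (t : G) (ρ (f : G) v) = ρ (f : G) (ρ (t : G) v)
    rw [← mul_apply', ← mul_apply', h1]
  obtain ⟨v, hv, hv0⟩ := Submodule.exists_mem_ne_zero_of_ne_bot hfix
  have h2 := hT t t.2 v hv
  rw [hc] at h2
  have h3 : (c - 1) • v = 0 := by rw [sub_smul, one_smul, h2, sub_self]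
  have h4 : c = 1 := sub_eq_zero.mp ((smul_eq_zero.mp h3).resolve_right hv0)
  apply LinearMap.ext
  intro v
  rw [hc, h4, one_smul, Module.End.one_apply]

/-- `r` is prime to the order of the permutation -/
theorem coprime_orderOf (hr : r.Prime) {T : Subgroup G}
    (hTF : T ≤ normalizer (F : Set G)) (hTr : ¬ r ∣ Nat.card T) (t : T) :
    r.Coprime (orderOf (tau hTF t)) := by
  rw [Nat.Prime.coprime_iff_not_dvd hr]
  intro hdvd
  apply hTr
  exact hdvd.trans ((orderOf_map_dvd (tau hTF) t).trans (orderOf_dvd_natCard t))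

theorem count (h : RD ρ F R r s) {T : Subgroup G} (hTF : T ≤ normalizer (F : Set G))
    (hTR : ∀ t ∈ T, ∀ a ∈ R, t * a = a * t)
    (hTr : ¬ r ∣ Nat.card T) (hTs : ¬ s ∣ Nat.card T)
    (hTZ : ∀ t ∈ T, ∀ z ∈ (center F).map F.subtype, t * z = z * t)
    (hfix : fix ρ R ≠ ⊥) (hT : ∀ t ∈ T, ∀ v ∈ fix ρ R, ρ t v = v) {a0 : R}
    (ha0 : ∀ a : R, ∃ n : ℕ, a0 ^ n = a) (t : T) {N : ℕ}
    (hN : ∀ p ∈ zpowers (tau hTF t), p ≠ 1 → Nat.card {x // p x = x} = N) :
    ∃ o : ℕ, o * (r * orderOf (tau hTF t)) =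
        finrank E V ^ 2 + (orderOf (tau hTF t) - 1) * N + orderOf (tau hTF t) * (r - 1) ∧
      finrank E (Cm (ρ (a0 : G)) (ρ (t : G))) ≤ o ∧
      finrank E V ≤ finrank E (Cm (ρ (a0 : G)) (ρ (t : G))) := by
  let act := actQ h.hRF
  have hcop := coprime_orderOf h.hr hTF hTr t
  set n := orderOf (tau hTF t) with hn
  have hcomm := tau_comm hTF h.hRF hTR t
  have hρr : ρ (a0 : G) ^ r = 1 := by
    rw [← map_pow, ← Subgroup.coe_pow, ← h.hR, pow_card_eq_one', Subgroup.coe_one, map_one]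
  have hρn : ρ (t : G) ^ n = 1 := by
    rw [← map_pow, ← Subgroup.coe_pow]
    apply rho_one h hTF hTs hTZ hfix hT
    rw [map_pow, hn, pow_orderOf_eq_one]
  have hρc : Commute (ρ (a0 : G)) (ρ (t : G)) := by
    show ρ (a0 : G) * ρ (t : G) = ρ (t : G) * ρ (a0 : G)
    rw [← map_mul, ← map_mul, hTR t t.2 a0 a0.2]
  refine ⟨Nat.card (@MulAction.orbitRel.Quotient (R × zpowers (tau hTF t)) (F ⧸ center F) _
    (Count.act (tau hTF t) hcomm)), ?_, ?_, ?_⟩
  · have h1 := Count.card_orbits (tau hTF t) hcomm (1 : F ⧸ center F) (smul_one' h.hRF)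
      (tau_one hTF t) (fun a ha x hx => eq_one_of_smul h ha hx) (by rw [h.hR]; exact hcop) hN
    rw [h.hR, h.card_eq] at h1
    exact h1
  · let _ := Count.act (tau hTF t) hcomm
    refine finrank_le_orbits h _ ?_
    rintro ⟨a, ⟨p, hp⟩⟩
    rw [← mem_powers_iff_mem_zpowers] at hp
    obtain ⟨k, rfl⟩ := hp
    refine ⟨a * (t : G) ^ k, ?_, ?_⟩
    · intro f
      refine ⟨alpha h.hRF a (alpha hTF (t ^ k) f), ?_, ?_⟩
      · rw [alpha_coe, alpha_coe, Subgroup.coe_pow, mul_inv_rev]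
        simp only [mul_assoc]
      · show _ = a • (tau hTF t ^ k) (f : F ⧸ center F)
        rw [← map_pow, tau_mk]
        rfl
    · rintro Y ⟨hY1, hY2⟩
      obtain ⟨j, rfl⟩ := ha0 a
      have h1 : Commute Y (ρ ((a0 ^ j : R) : G)) := by
        rw [Subgroup.coe_pow, map_pow]
        exact Commute.pow_right hY1 j
      have h2 : Commute Y (ρ ((t : G) ^ k)) := by
        rw [map_pow]
        exact Commute.pow_right hY2 k
      rw [map_mul]
      exact h1.mul_right h2
  · refine finrank_le_commutant (ρ (a0 : G) * ρ (t : G)) _ ?_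
    intro S hS
    have hS' : Commute S (ρ (a0 : G) * ρ (t : G)) := hS
    obtain ⟨u, hu1, hu2⟩ := Nat.chineseRemainder hcop 1 0
    obtain ⟨w, hw1, hw2⟩ := Nat.chineseRemainder hcop 0 1
    have hpow : ∀ (A : Module.End E V) {m a b : ℕ}, A ^ m = 1 → a ≡ b [MOD m] → A ^ a = A ^ b := by
      intro A m a b hA hab
      have h1 : ∀ c, A ^ c = A ^ (c % m) := by
        intro c
        conv_lhs => rw [← Nat.div_add_mod c m, pow_add, pow_mul, hA, one_pow, one_mul]
      rw [h1 a, h1 b, hab]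
    have h1 : (ρ (a0 : G) * ρ (t : G)) ^ u = ρ (a0 : G) := by
      rw [hρc.mul_pow, hpow _ hρr hu1, hpow _ hρn hu2, pow_one, pow_zero, mul_one]
    have h2 : (ρ (a0 : G) * ρ (t : G)) ^ w = ρ (t : G) := by
      rw [hρc.mul_pow, hpow _ hρr hw1, hpow _ hρn hw2, pow_one, pow_zero, one_mul]
    constructor
    · have h3 := hS'.pow_right u
      rw [h1] at h3
      exact h3
    · have h3 := hS'.pow_right w
      rw [h2] at h3
      exact h3

/-- the fixed points in `F / Z(F)` -/
def fixX {T : Subgroup G} (hTF : T ≤ normalizer (F : Set G)) (t : T) :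
    Subgroup (F ⧸ center F) where
  carrier := {x | tau hTF t x = x}
  mul_mem' := by
    intro a b ha hb
    show tau hTF t (a * b) = a * b
    rw [tau_mul, ha, hb]
  one_mem' := tau_one hTF t
  inv_mem' := by
    intro a ha
    show tau hTF t a⁻¹ = a⁻¹
    have h1 : tau hTF t a⁻¹ * tau hTF t a = 1 := by
      rw [← tau_mul, inv_mul_cancel]
      exact tau_one hTF t
    rw [show tau hTF t a = a from ha] at h1
    exact eq_inv_of_mul_eq_one_left h1

theorem dvd_fix (h : RD ρ F R r s) {T : Subgroup G} (hTF : T ≤ normalizer (F : Set G))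
    (hTR : ∀ t ∈ T, ∀ a ∈ R, t * a = a * t) (t : T) {m : ℕ}
    (hm : Nat.card {x // tau hTF t x = x} = m ^ 2) : r ∣ m ^ 2 - 1 := by
  let act := actQ h.hRF
  have hcomm := tau_comm hTF h.hRF hTR t
  let _ : MulAction R {x // tau hTF t x = x} :=
    { smul := fun a x => ⟨a • (x : F ⧸ center F), by rw [hcomm, x.2]⟩
      one_smul := fun x => Subtype.ext (one_smul R (x : F ⧸ center F))
      mul_smul := fun a b x => Subtype.ext (mul_smul a b (x : F ⧸ center F)) }
  have hr : Fact r.Prime := ⟨h.hr⟩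
  have hp : IsPGroup r R := IsPGroup.of_card (n := 1) (by rw [h.hR, pow_one])
  have h1 := hp.card_modEq_card_fixedPoints {x // tau hTF t x = x}
  have h2 : Nat.card (MulAction.fixedPoints R {x // tau hTF t x = x}) = 1 := by
    rw [Nat.card_eq_one_iff_unique]
    have hR1 : ∃ a : R, a ≠ 1 := by
      have hnt : Nontrivial R :=
        Finite.one_lt_card_iff_nontrivial.mp (by rw [h.hR]; exact h.hr.one_lt)
      exact exists_ne 1
    obtain ⟨a, ha⟩ := hR1
    refine ⟨⟨?_⟩, ⟨⟨⟨1, tau_one hTF t⟩, fun b => Subtype.ext (smul_one' h.hRF b)⟩⟩⟩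
    rintro ⟨⟨x, hx⟩, hx'⟩ ⟨⟨y, hy⟩, hy'⟩
    have h3 : x = 1 := eq_one_of_smul h ha (congrArg Subtype.val (hx' a))
    have h4 : y = 1 := eq_one_of_smul h ha (congrArg Subtype.val (hy' a))
    apply Subtype.ext
    apply Subtype.ext
    show x = y
    rw [h3, h4]
  rw [hm, h2] at h1
  have h3 : 1 ≤ m ^ 2 := by
    rw [← hm]
    have : Nonempty {x // tau hTF t x = x} := ⟨⟨1, tau_one hTF t⟩⟩
    exact Nat.card_pos
  exact (Nat.modEq_iff_dvd' h3).mp h1.symm

theorem prime_case (h : RD ρ F R r s) {T : Subgroup G} (hTF : T ≤ normalizer (F : Set G))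
    (hTR : ∀ t ∈ T, ∀ a ∈ R, t * a = a * t)
    (hTr : ¬ r ∣ Nat.card T) (hTs : ¬ s ∣ Nat.card T)
    (hTZ : ∀ t ∈ T, ∀ z ∈ (center F).map F.subtype, t * z = z * t)
    (hfix : fix ρ R ≠ ⊥) (hT : ∀ t ∈ T, ∀ v ∈ fix ρ R, ρ t v = v) (t : T)
    (hn : (orderOf (tau hTF t)).Prime) :
    orderOf (tau hTF t) = 2 ∧ (∀ x, tau hTF t x = x → x = 1) ∧ finrank E V = 2 * r - 1 := by
  let act := actQ h.hRF
  obtain ⟨a0, ha0⟩ := exists_gen h
  have hcop := coprime_orderOf h.hr hTF hTr t
  set n := orderOf (tau hTF t) with hndef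
  have hnT : n ∣ Nat.card T := (orderOf_map_dvd (tau hTF) t).trans (orderOf_dvd_natCard t)
  have hns : n ≠ s := by
    rintro h0
    exact hTs (h0 ▸ hnT)
  have hrn : r ≠ n := by
    intro h0
    exact hTr (h0 ▸ hnT)
  obtain ⟨m, hm⟩ := exists_sq_fix h.hs h.hZ h.hab hTF hTs hTZ t
  have hrm := dvd_fix h hTF hTR t hm
  -- powers of `τ`
  have hN : ∀ p ∈ zpowers (tau hTF t), p ≠ 1 → Nat.card {x // p x = x} = m ^ 2 := by
    intro p hp hp1
    rw [← hm]
    have hfx : ∀ (a b : Equiv.Perm (F ⧸ center F)), b ∈ zpowers a → ∀ x, a x = x → b x = x := by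
      intro a b hb x hx
      have h2 : zpowers a ≤ MulAction.stabilizer (Equiv.Perm (F ⧸ center F)) x := by
        rw [Subgroup.zpowers_le]
        exact hx
      exact h2 hb
    have h3 : tau hTF t ∈ zpowers p := by
      have hpr : Fact (Nat.card (zpowers (tau hTF t))).Prime := ⟨by
        rw [Nat.card_zpowers]; exact hn⟩
      have h4 : (⟨tau hTF t, mem_zpowers _⟩ : zpowers (tau hTF t)) ∈
          Subgroup.zpowers (⟨p, hp⟩ : zpowers (tau hTF t)) :=
        mem_zpowers_of_prime_card rfl (fun h0 => hp1 (congrArg Subtype.val h0))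
      obtain ⟨k, hk⟩ := Subgroup.mem_zpowers_iff.mp h4
      exact Subgroup.mem_zpowers_iff.mpr ⟨k, congrArg Subtype.val hk⟩
    refine Nat.card_congr (Equiv.subtypeEquivRight fun x => ?_)
    exact ⟨hfx p _ h3 x, hfx _ p hp x⟩
  obtain ⟨o, ho1, ho2, ho3⟩ := count h hTF hTR hTr hTs hTZ hfix hT ha0 t hN
  rw [← hndef] at ho1
  -- divisibility
  have hmX : m ^ 2 ∣ finrank E V ^ 2 := by
    rw [← hm, ← h.card_eq]
    exact Subgroup.card_subgroup_dvd_card (fixX hTF t)
  have hmd : m ∣ finrank E V := (Nat.pow_dvd_pow_iff (by norm_num)).mp hmX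
  have hm1 : 1 ≤ m := by
    by_contra hcon
    have h0 : m = 0 := by omega
    rw [h0] at hm
    have : Nonempty {x // tau hTF t x = x} := ⟨⟨1, tau_one hTF t⟩⟩
    have h2 : 0 < Nat.card {x // tau hTF t x = x} := Nat.card_pos
    rw [hm] at h2
    exact absurd h2 (by norm_num)
  obtain ⟨e, he⟩ := hmd
  have he2 : 2 ≤ e := by
    by_contra hcon
    push Not at hcon
    have h1 : Nat.card (F ⧸ center F) ≤ Nat.card {x // tau hTF t x = x} := by
      rw [h.card_eq, hm, he]
      exact Nat.pow_le_pow_left (by nlinarith) 2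
    -- every point is fixed
    have h2 : fixX hTF t = ⊤ := by
      apply Subgroup.eq_top_of_card_eq
      apply le_antisymm (Subgroup.card_le_card_group _)
      exact h1
    apply hn.ne_one
    rw [hndef, orderOf_eq_one_iff]
    apply Equiv.ext
    intro x
    have h3 : x ∈ fixX hTF t := by rw [h2]; exact Subgroup.mem_top x
    exact h3
  have hcopm : n.Coprime m := by
    rw [Nat.Prime.coprime_iff_not_dvd hn]
    intro h0
    apply hns
    have hsf : Fact s.Prime := ⟨h.hs⟩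
    obtain ⟨k, hk⟩ := h.hF.exists_card_eq
    have h1 : n ∣ s ^ k := by
      rw [← hk]
      refine (h0.trans ?_).trans (Subgroup.card_quotient_dvd_card (center F))
      rw [h.card_eq, he]
      exact (dvd_mul_right m e).trans (dvd_pow_self _ (by norm_num))
    exact (Nat.prime_dvd_prime_iff_eq hn h.hs).mp (hn.dvd_of_dvd_pow h1)
  -- the commutant of `R`
  have hρr : ρ (a0 : G) ^ r = 1 := by
    rw [← map_pow, ← Subgroup.coe_pow, ← h.hR, pow_card_eq_one', Subgroup.coe_one, map_one]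
  have hρn : ρ (t : G) ^ n = 1 := by
    rw [← map_pow, ← Subgroup.coe_pow]
    apply rho_one h hTF hTs hTZ hfix hT
    rw [map_pow, hndef, pow_orderOf_eq_one]
  have hρc : ρ (t : G) * ρ (a0 : G) = ρ (a0 : G) * ρ (t : G) := by
    rw [← map_mul, ← map_mul, hTR t t.2 a0 a0.2]
  let D : Submodule E (Module.End E V) := Cm (ρ (a0 : G)) (ρ (a0 : G))
  have hD1 : Nat.card (MulAction.orbitRel.Quotient R (F ⧸ center F)) ≤ finrank E D := by
    refine orbits_le_finrank h D ?_
    intro S hS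
    exact ⟨hS a0 a0.2, hS a0 a0.2⟩
  have hD2 : finrank E D ≤ Nat.card (MulAction.orbitRel.Quotient R (F ⧸ center F)) :=
    h.finrank_commutant_le (ρ (a0 : G)) ha0 rfl D (fun S hS => hS.1)
  have hoR := h.card_orbits
  rw [h.card_eq] at hoR
  have h5 := comm_lower (ρ (a0 : G)) (ρ (t : G)) h.hrE hρr hn hρn hρc (by
      intro v hv
      apply hT t t.2
      intro a ha
      obtain ⟨k, hk⟩ := ha0 ⟨a, ha⟩
      have h1 : (a0 : G) ^ k = a := by
        have := congrArg Subtype.val hk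
        rwa [Subgroup.coe_pow] at this
      rw [← h1]
      have h2 : ∀ j : ℕ, ρ ((a0 : G) ^ j) v = v := by
        intro j
        induction j with
        | zero => rw [pow_zero, map_one, Module.End.one_apply]
        | succ j ih => rw [pow_succ', mul_apply', ih]; exact hv
      exact h2 k) (Cm (ρ (a0 : G)) (ρ (t : G))) D (fun S h1 h2 => ⟨h1, h2⟩) (fun S hS => hS.1)
  have h7 := mult_aux (ρ (a0 : G)) h.hrE hρr D (fun S hS => ⟨hS, hS⟩) hD2 hoR
  have h6 := arith_one h.hr.two_le hn.two_le ho1 hoR ho2 h5 hD1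
  rw [he] at ho1 hoR ho3 h7 ⊢
  obtain ⟨hn2, hm2, hd⟩ := arith_core h.hr hn hrn hm1 he2 hrm hcopm ho1 hoR ho3 ho2 h6 h7
  refine ⟨hn2, ?_, hd⟩
  intro x hx
  rw [hm2, one_pow, Nat.card_eq_one_iff_unique] at hm
  have h8 := hm.1.elim (⟨x, hx⟩ : {x // tau hTF t x = x}) ⟨1, tau_one hTF t⟩
  exact congrArg Subtype.val h8

/-- **The theorem.** -/
theorem f3_core (h : RD ρ F R r s) (T : Subgroup G)
    (hTF : T ≤ normalizer (F : Set G)) (hTR : ∀ t ∈ T, ∀ a ∈ R, t * a = a * t)
    (hTr : ¬ r ∣ Nat.card T) (hTs : ¬ s ∣ Nat.card T)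
    (hTZ : ∀ t ∈ T, ∀ z ∈ (center F).map F.subtype, t * z = z * t)
    (hfix : fix ρ R ≠ ⊥) (hT : ∀ t ∈ T, ∀ v ∈ fix ρ R, ρ t v = v) :
    ∀ t ∈ T, (∀ f ∈ F, ⁅t, f⁆ ∈ (center F).map F.subtype) ∨
      (∀ f ∈ F, t * f * t⁻¹ * f ∈ (center F).map F.subtype) := by
  intro t0 ht0
  set t : T := ⟨t0, ht0⟩ with htdef
  have hcase : ∀ t : T, (orderOf (tau hTF t)).Prime → orderOf (tau hTF t) = 2 ∧
      (∀ x, tau hTF t x = x → x = 1) ∧ finrank E V = 2 * r - 1 :=
    fun t hn => prime_case h hTF hTR hTr hTs hTZ hfix hT t hn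
  set o := orderOf (tau hTF t) with ho
  have hpos : 0 < o := orderOf_pos _
  have hpow : ∀ k, k ∣ o → orderOf (tau hTF (t ^ (o / k))) = k := by
    intro k hk
    rw [map_pow, orderOf_pow_orderOf_div hpos.ne' hk]
  by_cases h1 : o = 1
  · left
    intro f hf
    have h2 : tau hTF t = 1 := orderOf_eq_one_iff.mp h1
    have h3 := congrArg Subtype.val (alpha_eq_of_tau h.hs h.hZ hTF hTs hTZ h2 ⟨f, hf⟩)
    rw [alpha_coe] at h3
    have h4 : t0 * f * t0⁻¹ = f := h3
    rw [commutatorElement_def, h4, mul_inv_cancel]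
    exact ((center F).map F.subtype).one_mem
  · right
    -- every prime divisor is `2`
    have hprime : ∀ q, q.Prime → q ∣ o → q = 2 := by
      intro q hq hqo
      have h2 := hpow q hqo
      have h3 := (hcase (t ^ (o / q)) (by rw [h2]; exact hq)).1
      rwa [h2] at h3
    have h2o : 2 ∣ o := by
      obtain ⟨q, hq, hqo⟩ := Nat.exists_prime_and_dvd h1
      rw [← hprime q hq hqo]
      exact hqo
    obtain ⟨-, hfix2, hdim⟩ := hcase (t ^ (o / 2)) (by rw [hpow 2 h2o]; exact Nat.prime_two)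
    -- not divisible by `4`
    have h4o : ¬ 4 ∣ o := by
      intro h4
      set u : T := t ^ (o / 4) with hu
      have hou : orderOf (tau hTF u) = 4 := hpow 4 h4
      have hu2 : tau hTF (t ^ (o / 2)) = tau hTF u ^ 2 := by
        rw [hu, map_pow, map_pow, ← pow_mul]
        congr 1
        obtain ⟨j, hj⟩ := h4
        rw [hj]
        omega
      rw [hu2] at hfix2
      obtain ⟨a0, ha0⟩ := exists_gen h
      have hN : ∀ p ∈ zpowers (tau hTF u), p ≠ 1 → Nat.card {x // p x = x} = 1 := by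
        intro p hp hp1
        rw [Nat.card_eq_one_iff_unique]
        rw [← mem_powers_iff_mem_zpowers] at hp
        obtain ⟨k, rfl⟩ := hp
        have h0 : ∀ x, (tau hTF u ^ k) x = x → x = 1 := by
          intro x hx
          apply hfix2
          have hfx : ∀ (a b : Equiv.Perm (F ⧸ center F)), b ∈ zpowers a → ∀ x, a x = x →
              b x = x := by
            intro a b hb x hx
            have h2 : zpowers a ≤ MulAction.stabilizer (Equiv.Perm (F ⧸ center F)) x := by
              rw [Subgroup.zpowers_le]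
              exact hx
            exact h2 hb
          refine hfx (tau hTF u ^ k) _ ?_ x hx
          have hk4 : ¬ 4 ∣ k := by
            intro h5
            apply hp1
            show tau hTF u ^ k = 1
            rw [← hou] at h5
            exact orderOf_dvd_iff_pow_eq_one.mp h5
          -- `τ²` is a power of `τ ^ k`
          have h5 : ∃ j, (k * j) % 4 = 2 := by
            have h6 : k % 4 = 1 ∨ k % 4 = 2 ∨ k % 4 = 3 := by omega
            rcases h6 with h6 | h6 | h6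
            · exact ⟨2, by omega⟩
            · exact ⟨1, by omega⟩
            · exact ⟨2, by omega⟩
          obtain ⟨j, hj⟩ := h5
          refine Subgroup.mem_zpowers_iff.mpr ⟨j, ?_⟩
          rw [zpow_natCast, ← pow_mul, ← pow_mod_orderOf, hou, hj]
        refine ⟨⟨?_⟩, ⟨⟨1, ?_⟩⟩⟩
        · rintro ⟨x, hx⟩ ⟨y, hy⟩
          apply Subtype.ext
          show x = y
          rw [h0 x hx, h0 y hy]
        · show (tau hTF u ^ k) 1 = 1
          rw [← map_pow]
          exact tau_one hTF _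
      obtain ⟨c, hc1, hc2, hc3⟩ := count h hTF hTR hTr hTs hTZ hfix hT ha0 u hN
      rw [hou, hdim] at hc1
      have h5 := hc3.trans hc2
      rw [hdim] at h5
      have hr2 := h.hr.two_le
      obtain ⟨e, rfl⟩ : ∃ e, r = e + 1 := ⟨r - 1, by omega⟩
      have h6 : 2 * (e + 1) - 1 = 2 * e + 1 := by omega
      rw [h6] at h5 hc1
      rw [Nat.add_sub_cancel] at hc1
      have h7 : (2 * e + 1) * ((e + 1) * 4) ≤ c * ((e + 1) * 4) := Nat.mul_le_mul_right _ h5
      rw [hc1] at h7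
      nlinarith
    have ho2 : o = 2 := by
      obtain ⟨k, hk⟩ := h2o
      by_cases hk1 : k = 1
      · rw [hk, hk1]
      · exfalso
        obtain ⟨q, hq, hqk⟩ := Nat.exists_prime_and_dvd hk1
        have h3 := hprime q hq (by rw [hk]; exact hqk.mul_left 2)
        subst h3
        apply h4o
        rw [hk]
        exact mul_dvd_mul (dvd_refl 2) hqk
    rw [ho2, Nat.div_self (by norm_num), pow_one] at hfix2
    intro f hf
    have h5 : tau hTF t ^ 2 = 1 := by rw [← ho2, ho, pow_orderOf_eq_one]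
    have h6 : tau hTF t (tau hTF t (QuotientGroup.mk (⟨f, hf⟩ : F))) =
        QuotientGroup.mk (⟨f, hf⟩ : F) := by
      rw [← Equiv.Perm.mul_apply, ← sq, h5, Equiv.Perm.one_apply]
    have hcommX : ∀ x y : F ⧸ center F, x * y = y * x := by
      intro x y
      induction x using QuotientGroup.induction_on with | H a => ?_
      induction y using QuotientGroup.induction_on with | H b => ?_
      rw [← QuotientGroup.mk_mul, ← QuotientGroup.mk_mul, QuotientGroup.eq]
      have h1 : (a * b)⁻¹ * (b * a) = b⁻¹ * a⁻¹ * b⁻¹⁻¹ * a⁻¹⁻¹ := by group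
      rw [h1]
      exact h.hab b⁻¹ a⁻¹
    have h7 := hfix2 (tau hTF t (QuotientGroup.mk (⟨f, hf⟩ : F)) *
      QuotientGroup.mk (⟨f, hf⟩ : F)) (by rw [tau_mul, h6, hcommX])
    rw [tau_mk, ← QuotientGroup.mk_mul, QuotientGroup.eq_one_iff] at h7
    exact ⟨_, h7, rfl⟩

end Cfsg.Agent.H555.F3.Main
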