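import Mathlib

/-!
# The order of a group with centre of prime order and abelian central quotient
-/

set_option autoImplicit false

namespace Cfsg.Agent.H555.F3.Sq

open Subgroup
open scoped IsMulCommutative

theorem card_hom_le {B Z : Type*} [Group B] [Finite B] [Group Z] {s : ℕ} (hs : s.Prime)
    (hcomm : ∀ x y : B, x * y = y * x) (hZ : Nat.card Z = s) :
    Finite (B →* Z) ∧ Nat.card (B →* Z) ≤ Nat.card B := by
  let _ : CommGroup B := { (inferInstance : Group B) with mul_comm := hcomm }
  have hsf : Fact s.Prime := ⟨hs⟩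
  have hs0 : NeZero s := ⟨hs.ne_zero⟩
  have hfZ : Finite Z := Nat.finite_of_card_ne_zero (by rw [hZ]; exact hs.ne_zero)
  have hc1 : IsCyclic Z := isCyclic_of_prime_card hZ
  have hcard : Nat.card (rootsOfUnity s ℂ) = s := Complex.card_rootsOfUnity s
  have hc2 : IsCyclic (rootsOfUnity s ℂ) := isCyclic_of_prime_card hcard
  let e : Z ≃* rootsOfUnity s ℂ := mulEquivOfCyclicCardEq (by rw [hZ, hcard])
  let j : Z →* ℂˣ := (rootsOfUnity s ℂ).subtype.comp e.toMonoidHom
  have hj : Function.Injective j := fun a b hab =>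
    e.injective ((rootsOfUnity s ℂ).subtype_injective hab)
  have h1 : Nat.card (B →* ℂˣ) = Nat.card B :=
    CommGroup.card_monoidHom_of_hasEnoughRootsOfUnity B ℂ
  have hfin : Finite (B →* ℂˣ) := Nat.finite_of_card_ne_zero (by rw [h1]; exact Nat.card_pos.ne')
  have hinj : Function.Injective (fun f : B →* Z => j.comp f) := by
    intro f g hfg
    ext x
    exact hj (DFunLike.congr_fun hfg x)
  exact ⟨Finite.of_injective _ hinj, (Nat.card_le_card_of_injective _ hinj).trans h1.le⟩

variable {K : Type*} [Group K]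

theorem comm_mul_left (hab : ∀ x y : K, x * y * x⁻¹ * y⁻¹ ∈ center K) (x x' y : K) :
    (x * x') * y * (x * x')⁻¹ * y⁻¹ = (x * y * x⁻¹ * y⁻¹) * (x' * y * x'⁻¹ * y⁻¹) := by
  have h1 := Subgroup.mem_center_iff.mp (hab x' y) x
  calc (x * x') * y * (x * x')⁻¹ * y⁻¹ = (x * (x' * y * x'⁻¹ * y⁻¹)) * (y * x⁻¹ * y⁻¹) := by group
    _ = ((x' * y * x'⁻¹ * y⁻¹) * x) * (y * x⁻¹ * y⁻¹) := by rw [h1]
    _ = (x' * y * x'⁻¹ * y⁻¹) * (x * y * x⁻¹ * y⁻¹) := by group
    _ = (x * y * x⁻¹ * y⁻¹) * (x' * y * x'⁻¹ * y⁻¹) :=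
      (Subgroup.mem_center_iff.mp (hab x' y) (x * y * x⁻¹ * y⁻¹)).symm

theorem comm_mul_right (hab : ∀ x y : K, x * y * x⁻¹ * y⁻¹ ∈ center K) (x y y' : K) :
    x * (y * y') * x⁻¹ * (y * y')⁻¹ = (x * y * x⁻¹ * y⁻¹) * (x * y' * x⁻¹ * y'⁻¹) := by
  have h1 := Subgroup.mem_center_iff.mp (hab x y') y
  calc x * (y * y') * x⁻¹ * (y * y')⁻¹ =
      (x * y * x⁻¹ * y⁻¹) * (y * (x * y' * x⁻¹ * y'⁻¹)) * y⁻¹ := by group
    _ = (x * y * x⁻¹ * y⁻¹) * ((x * y' * x⁻¹ * y'⁻¹) * y) * y⁻¹ := by rw [h1]
    _ = _ := by group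

/-- a maximal abelian subgroup -/
theorem exists_max_abelian (K : Type*) [Group K] [Finite K] :
    ∃ A : Subgroup K, ∀ x : K, x ∈ A ↔ ∀ a ∈ A, x * a = a * x := by
  classical
  let S : Set (Subgroup K) := {A | ∀ x ∈ A, ∀ y ∈ A, x * y = y * x}
  have hS : S.Nonempty := ⟨⊥, fun x hx y hy => by
    rw [Subgroup.mem_bot] at hx hy
    rw [hx, hy]⟩
  obtain ⟨A, hA⟩ := (Set.toFinite S).exists_maximal hS
  refine ⟨A, fun x => ⟨fun hx a ha => hA.prop x hx a ha, fun hx => ?_⟩⟩
  have hcl : ∀ u ∈ (insert x (A : Set K)), ∀ v ∈ (insert x (A : Set K)), u * v = v * u := by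
    intro u hu v hv
    rcases hu with rfl | hu
    · rcases hv with rfl | hv
      · rfl
      · exact hx v hv
    · rcases hv with rfl | hv
      · exact (hx u hu).symm
      · exact hA.prop u hu v hv
  have hB : Subgroup.closure (insert x (A : Set K)) ∈ S := by
    intro u hu v hv
    have h1 := (Subgroup.isMulCommutative_closure hcl).is_comm.comm ⟨u, hu⟩ ⟨v, hv⟩
    exact congrArg Subtype.val h1
  have hle : A ≤ Subgroup.closure (insert x (A : Set K)) := fun a ha =>
    Subgroup.subset_closure (Set.mem_insert_of_mem x ha)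
  exact hA.le_of_ge hB hle (Subgroup.subset_closure (Set.mem_insert x _))

/-- **The square lemma.** -/
theorem exists_sq [Finite K] {s : ℕ} (hs : s.Prime) (hZ : Nat.card (center K) = s)
    (hab : ∀ x y : K, x * y * x⁻¹ * y⁻¹ ∈ center K) : ∃ m, Nat.card (K ⧸ center K) = m ^ 2 := by
  obtain ⟨A, hA⟩ := exists_max_abelian K
  have hZA : center K ≤ A := fun z hz => (hA z).mpr fun a _ =>
    (Subgroup.mem_center_iff.mp hz a).symm
  have hAn : A.Normal := by
    constructor
    intro a ha g
    have h1 : g * a * g⁻¹ = (g * a * g⁻¹ * a⁻¹) * a := by group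
    rw [h1]
    exact A.mul_mem (hZA (hab g a)) ha
  let β : K → K → center K := fun x y => ⟨x * y * x⁻¹ * y⁻¹, hab x y⟩
  have hβl : ∀ x x' y, β (x * x') y = β x y * β x' y := fun x x' y =>
    Subtype.ext (comm_mul_left hab x x' y)
  have hβr : ∀ x y y', β x (y * y') = β x y * β x y' := fun x y y' =>
    Subtype.ext (comm_mul_right hab x y y')
  have hβ1 : ∀ x y, β x y = 1 ↔ x * y = y * x := by
    intro x y
    constructor
    · intro h
      have h1 : x * y * x⁻¹ * y⁻¹ = 1 := congrArg Subtype.val h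
      rwa [mul_inv_eq_one, mul_inv_eq_iff_eq_mul] at h1
    · intro h
      apply Subtype.ext
      show x * y * x⁻¹ * y⁻¹ = 1
      rwa [mul_inv_eq_one, mul_inv_eq_iff_eq_mul]
  let Z' : Subgroup A := (center K).subgroupOf A
  have hZn : Z'.Normal := inferInstanceAs ((center K).subgroupOf A).Normal
  -- first map
  let f : K →* ((A ⧸ Z') →* center K) :=
    { toFun := fun x => QuotientGroup.lift Z'
        { toFun := fun a => β x a
          map_one' := (hβ1 x 1).mpr (by rw [mul_one, one_mul])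
          map_mul' := fun a b => hβr x a b } (by
            intro a ha
            exact (hβ1 x a).mpr (Subgroup.mem_center_iff.mp ha x))
      map_one' := by
        ext a
        exact congrArg Subtype.val ((hβ1 1 a).mpr (by rw [mul_one, one_mul]))
      map_mul' := by
        intro x y
        ext a
        exact congrArg Subtype.val (hβl x y a) }
  have hfker : f.ker = A := by
    ext x
    rw [MonoidHom.mem_ker, hA]
    constructor
    · intro h a ha
      have h1 : f x (QuotientGroup.mk ⟨a, ha⟩) = 1 := by rw [h]; rfl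
      exact (hβ1 x a).mp h1
    · intro h
      ext a
      exact congrArg Subtype.val ((hβ1 x a).mpr (h a a.2))
  -- second map
  let g : A →* ((K ⧸ A) →* center K) :=
    { toFun := fun a => QuotientGroup.lift A
        { toFun := fun x => β x a
          map_one' := (hβ1 1 a).mpr (by rw [mul_one, one_mul])
          map_mul' := fun x y => hβl x y a } (by
            intro x hx
            exact (hβ1 x a).mpr ((hA x).mp hx a a.2))
      map_one' := by
        ext x
        exact congrArg Subtype.val ((hβ1 x 1).mpr (by rw [mul_one, one_mul]))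
      map_mul' := by
        intro a b
        ext x
        exact congrArg Subtype.val (hβr x a b) }
  have hgker : g.ker = Z' := by
    ext a
    rw [MonoidHom.mem_ker, Subgroup.mem_subgroupOf, Subgroup.mem_center_iff]
    constructor
    · intro h x
      have h1 : g a (QuotientGroup.mk x) = 1 := by rw [h]; rfl
      exact (hβ1 x a).mp h1
    · intro h
      ext x
      exact congrArg Subtype.val ((hβ1 x a).mpr (h x))
  have hc1 : ∀ x y : A ⧸ Z', x * y = y * x := by
    intro x y
    induction x using QuotientGroup.induction_on with | H a => ?_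
    induction y using QuotientGroup.induction_on with | H b => ?_
    rw [← QuotientGroup.mk_mul, ← QuotientGroup.mk_mul]
    exact congrArg _ (Subtype.ext ((hA a).mp a.2 b b.2))
  have hc2 : ∀ x y : K ⧸ A, x * y = y * x := by
    intro x y
    induction x using QuotientGroup.induction_on with | H a => ?_
    induction y using QuotientGroup.induction_on with | H b => ?_
    rw [← QuotientGroup.mk_mul, ← QuotientGroup.mk_mul, QuotientGroup.eq]
    have h1 : (a * b)⁻¹ * (b * a) = b⁻¹ * a⁻¹ * b⁻¹⁻¹ * a⁻¹⁻¹ := by group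
    rw [h1]
    exact hZA (hab b⁻¹ a⁻¹)
  obtain ⟨hf1, hf2⟩ := card_hom_le hs hc1 hZ
  obtain ⟨hg1, hg2⟩ := card_hom_le hs hc2 hZ
  have h1 : Nat.card (K ⧸ A) ≤ Nat.card (A ⧸ Z') := by
    refine le_trans ?_ hf2
    have h2 : Nat.card (K ⧸ f.ker) ≤ Nat.card ((A ⧸ Z') →* center K) :=
      Nat.card_le_card_of_injective _ (QuotientGroup.kerLift_injective f)
    rwa [hfker] at h2
  have h2 : Nat.card (A ⧸ Z') ≤ Nat.card (K ⧸ A) := by
    refine le_trans ?_ hg2
    have h2 : Nat.card (A ⧸ g.ker) ≤ Nat.card ((K ⧸ A) →* center K) :=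
      Nat.card_le_card_of_injective _ (QuotientGroup.kerLift_injective g)
    rwa [hgker] at h2
  refine ⟨Nat.card (K ⧸ A), ?_⟩
  have h3 : Nat.card (A ⧸ Z') = Nat.card (K ⧸ A) := le_antisymm h2 h1
  have h4 : (center K).relIndex A * A.index = (center K).index :=
    Subgroup.relIndex_mul_index hZA
  have h5 : (center K).relIndex A = Nat.card (A ⧸ Z') := rfl
  have h6 : (center K).index = Nat.card (K ⧸ center K) := rfl
  have h7 : A.index = Nat.card (K ⧸ A) := rfl
  rw [← h6, ← h4, h5, h3, h7, sq]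

end Cfsg.Agent.H555.F3.Sq
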