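import Cfsg.Agent.H575.Fix
import Cfsg.Agent.H555.F3.Lin
import Cfsg.Agent.H555.F3.Sq
import Cfsg.Agent.H555.F3.Count

/-!
# The commutant of a group normalising an extraspecial group
-/

set_option autoImplicit false
set_option linter.unusedSectionVars false

namespace Cfsg.Agent.H555.F3.Orb

open Module Subgroup Cfsg.Agent.H575 Cfsg.Agent.H575.Dim Cfsg.Agent.H575.ExtraIrr

variable {E : Type*} [Field E] [IsAlgClosed E] {G V : Type*} [Group G] [Finite G]
  [AddCommGroup V] [Module E V] [FiniteDimensional E V]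
  {ρ : Representation E G V} {F R : Subgroup G} {r s : ℕ}

/-- the basis of `End V` indexed by `F / Z(F)` -/
noncomputable def bas (h : RD ρ F R r s) : Basis (F ⧸ center F) E (Module.End E V) :=
  Basis.mk h.linearIndependent h.span_eq_top.ge

theorem bas_apply (h : RD ρ F R r s) (x : F ⧸ center F) : bas h x = ρ (sig F x : G) := by
  rw [bas, Basis.mk_apply]

theorem rho_eq (h : RD ρ F R r s) (f : F) : ∃ c : E, ρ (f : G) = c • bas h (f : F ⧸ center F) := by
  obtain ⟨c, hc⟩ := h.apply_eq f
  exact ⟨c, by rw [bas_apply]; exact hc⟩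

/-- conjugation permutes the lines spanned by the basis -/
theorem exists_coeff (h : RD ρ F R r s) (g : G) (k : F ⧸ center F → F ⧸ center F)
    (hk : Function.Injective k)
    (hg : ∀ f : F, ∃ f' : F, (f' : G) = g * f * g⁻¹ ∧
      (f' : F ⧸ center F) = k (f : F ⧸ center F)) :
    ∃ c : F ⧸ center F → E, (∀ x, ρ g * bas h x * ρ g⁻¹ = c x • bas h (k x)) ∧
      ∀ Y y, (bas h).repr (ρ g * Y * ρ g⁻¹) (k y) = c y * (bas h).repr Y y := by
  classical
  have h1 : ∀ x : F ⧸ center F, ∃ c : E, ρ g * bas h x * ρ g⁻¹ = c • bas h (k x) := by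
    intro x
    obtain ⟨f', hf', hx⟩ := hg (sig F x)
    obtain ⟨c, hc⟩ := rho_eq h f'
    refine ⟨c, ?_⟩
    rw [mk_sig] at hx
    rw [bas_apply, ← map_mul, ← map_mul, ← hf', hc, hx]
  choose c hc using h1
  refine ⟨c, hc, ?_⟩
  intro Y y
  let f1 : Module.End E V →ₗ[E] E :=
    (Finsupp.lapply (k y)) ∘ₗ (bas h).repr.toLinearMap ∘ₗ (LinearMap.mulRight E (ρ g⁻¹)) ∘ₗ
      (LinearMap.mulLeft E (ρ g))
  let f2 : Module.End E V →ₗ[E] E := c y • ((Finsupp.lapply y) ∘ₗ (bas h).repr.toLinearMap)
  have h2 : f1 = f2 := by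
    refine (bas h).ext fun x => ?_
    show (bas h).repr (ρ g * bas h x * ρ g⁻¹) (k y) = c y * (bas h).repr (bas h x) y
    rw [hc, map_smul, Basis.repr_self, Basis.repr_self, Finsupp.smul_apply, smul_eq_mul]
    by_cases hxy : x = y
    · rw [hxy, Finsupp.single_eq_same, Finsupp.single_eq_same]
    · rw [Finsupp.single_eq_of_ne' (fun h => hxy (hk h)), Finsupp.single_eq_of_ne' hxy, mul_zero,
        mul_zero]
  exact LinearMap.congr_fun h2 Y

/-- **Upper bound** for the commutant. -/
theorem finrank_le_orbits (h : RD ρ F R r s) {K : Type*} [Group K] [MulAction K (F ⧸ center F)]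
    (C : Submodule E (Module.End E V))
    (hK : ∀ k : K, ∃ g : G, (∀ f : F, ∃ f' : F, (f' : G) = g * f * g⁻¹ ∧
      (f' : F ⧸ center F) = k • (f : F ⧸ center F)) ∧ ∀ Y ∈ C, Y * ρ g = ρ g * Y) :
    finrank E C ≤ Nat.card (MulAction.orbitRel.Quotient K (F ⧸ center F)) := by
  classical
  let Ω := MulAction.orbitRel.Quotient K (F ⧸ center F)
  have : Fintype Ω := Fintype.ofFinite Ω
  let Ψ : C →ₗ[E] (Ω → E) :=
    { toFun := fun Y o => (bas h).repr (Y : Module.End E V) (Quotient.out o)
      map_add' := by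
        intro a b
        funext o
        show (bas h).repr ((a : Module.End E V) + b) _ = _
        rw [map_add]
        rfl
      map_smul' := by
        intro c a
        funext o
        show (bas h).repr (c • (a : Module.End E V)) _ = _
        rw [map_smul]
        rfl }
  have hinj : Function.Injective Ψ := by
    rw [← LinearMap.ker_eq_bot, LinearMap.ker_eq_bot']
    intro Y hY
    apply Subtype.ext
    apply (bas h).repr.injective
    rw [Submodule.coe_zero, map_zero]
    ext x
    rw [Finsupp.zero_apply]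
    have h5 : (Quotient.out (Quotient.mk (MulAction.orbitRel K (F ⧸ center F)) x)) ∈
        MulAction.orbit K x := by
      have h6 := Quotient.mk_out (s := MulAction.orbitRel K (F ⧸ center F)) x
      exact MulAction.orbitRel_apply.mp h6
    obtain ⟨k, hk⟩ := h5
    have hk' : k • x = Quotient.out (Quotient.mk (MulAction.orbitRel K (F ⧸ center F)) x) := hk
    have hx : x = k⁻¹ • (Quotient.out (Quotient.mk (MulAction.orbitRel K (F ⧸ center F)) x)) := by
      rw [← hk', inv_smul_smul]
    obtain ⟨g, hg, hgC⟩ := hK k⁻¹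
    obtain ⟨c, -, hc⟩ := exists_coeff h g (fun y => k⁻¹ • y) (MulAction.injective _) hg
    have h7 := hc Y (Quotient.out (Quotient.mk (MulAction.orbitRel K (F ⧸ center F)) x))
    have h8 : ρ g * (Y : Module.End E V) * ρ g⁻¹ = Y := by
      rw [← hgC Y Y.2, mul_assoc, ← map_mul, mul_inv_cancel, map_one, mul_one]
    have h9 : (bas h).repr (Y : Module.End E V)
        (Quotient.out (Quotient.mk (MulAction.orbitRel K (F ⧸ center F)) x)) = 0 :=
      congrFun hY (Quotient.mk (MulAction.orbitRel K (F ⧸ center F)) x)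
    rw [h8, h9, mul_zero, ← hx] at h7
    exact h7
  have h1 := LinearMap.finrank_le_finrank_of_injective hinj
  rwa [Module.finrank_fintype_fun_eq_card, ← Nat.card_eq_fintype_card] at h1

theorem conj_rep (hRF : R ≤ normalizer (F : Set G)) (a : R) (f : F) :
    letI := actQ hRF
    ∃ f' : F, (f' : G) = a * f * (a : G)⁻¹ ∧
      (f' : F ⧸ center F) = a • (f : F ⧸ center F) :=
  ⟨alpha hRF a f, rfl, rfl⟩

theorem smul_one' (hRF : R ≤ normalizer (F : Set G)) (a : R) :
    letI := actQ hRF
    a • (1 : F ⧸ center F) = 1 := by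
  let _ := actQ hRF
  exact map_one (QuotientGroup.map (center F) (center F) (alpha hRF a).toMonoidHom
    (fun _ hz => map_mem_center (alpha hRF a) hz))

theorem eq_one_of_smul (h : RD ρ F R r s) {a : R} (ha : a ≠ 1) {x : F ⧸ center F}
    (hx : letI := actQ h.hRF; a • x = x) : x = 1 := by
  induction x using QuotientGroup.induction_on with | H f => ?_
  have h3 : ((alpha h.hRF a f : F) : F ⧸ center F) = f := hx
  have h4 : f⁻¹ * alpha h.hRF a f ∈ center F := QuotientGroup.eq.mp h3.symm
  exact (QuotientGroup.eq_one_iff _).mpr (h.mem_center_of_fixed ha h4)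

/-- **Lower bound** for the commutant of `R`. -/
theorem orbits_le_finrank (h : RD ρ F R r s) (C : Submodule E (Module.End E V))
    (hC : ∀ S, (∀ a ∈ R, S * ρ a = ρ a * S) → S ∈ C) :
    letI := actQ h.hRF
    Nat.card (MulAction.orbitRel.Quotient R (F ⧸ center F)) ≤ finrank E C := by
  classical
  let act := actQ h.hRF
  have : Fintype R := Fintype.ofFinite R
  let Ω := MulAction.orbitRel.Quotient R (F ⧸ center F)
  have : Fintype Ω := Fintype.ofFinite Ω
  have hmem : ∀ Y : Module.End E V, avg ρ R Y ∈ C := by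
    intro Y
    apply hC
    intro a ha
    rw [avg_apply, Finset.sum_mul, Finset.mul_sum]
    refine Fintype.sum_equiv (Equiv.mulLeft (⟨a, ha⟩ : R)⁻¹) _ _ fun b => ?_
    show ρ (b : G) * Y * ρ (b : G)⁻¹ * ρ a =
      ρ a * (ρ (((⟨a, ha⟩ : R)⁻¹ * b : R) : G) * Y * ρ (((⟨a, ha⟩ : R)⁻¹ * b : R) : G)⁻¹)
    have h1 : (((⟨a, ha⟩ : R)⁻¹ * b : R) : G) = a⁻¹ * b := rfl
    rw [h1, mul_inv_rev, inv_inv, ← mul_assoc, ← mul_assoc, ← map_mul, mul_inv_cancel_left,
      map_mul ρ ((b : G)⁻¹) a, ← mul_assoc]
  -- coordinates of the averages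
  have hcoeff : ∀ a : R, ∃ c : F ⧸ center F → E,
      (∀ x, ρ (a : G) * bas h x * ρ (a : G)⁻¹ = c x • bas h (a • x)) := by
    intro a
    obtain ⟨c, hc, -⟩ := exists_coeff h (a : G) (fun x => a • x) (MulAction.injective _)
      (conj_rep h.hRF a)
    exact ⟨c, hc⟩
  choose c hc using hcoeff
  have hrepr : ∀ x y, (bas h).repr (avg ρ R (bas h x)) y =
      ∑ a : R, c a x * (if a • x = y then 1 else 0) := by
    intro x y
    rw [avg_apply, map_sum, Finset.sum_apply']
    refine Finset.sum_congr rfl fun a _ => ?_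
    rw [hc, map_smul, Basis.repr_self, Finsupp.smul_apply, smul_eq_mul, Finsupp.single_apply]
  have hne : ∀ x, (bas h).repr (avg ρ R (bas h x)) x ≠ 0 := by
    intro x
    by_cases hx : x = 1
    · subst hx
      have h1 : ∀ a : R, ρ (a : G) * bas h 1 * ρ (a : G)⁻¹ = bas h 1 := by
        intro a
        have h2 : sig F (1 : F ⧸ center F) ∈ center F :=
          (QuotientGroup.eq_one_iff _).mp (mk_sig (1 : F ⧸ center F))
        have h3 := congrArg Subtype.val (h.alpha_center a h2)
        rw [alpha_coe] at h3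
        rw [bas_apply, ← map_mul, ← map_mul, h3]
      rw [avg_apply, Finset.sum_congr rfl fun a _ => h1 a, Finset.sum_const, Finset.card_univ,
        ← Nat.card_eq_fintype_card, h.hR, ← Nat.cast_smul_eq_nsmul E, map_smul, Basis.repr_self,
        Finsupp.smul_apply, Finsupp.single_eq_same, smul_eq_mul, mul_one]
      exact h.hrE
    · rw [hrepr, Finset.sum_eq_single (1 : R)]
      · rw [one_smul, if_pos rfl, mul_one]
        intro h0
        have h1 := hc 1 x
        rw [h0, zero_smul, Subgroup.coe_one, inv_one, map_one, one_mul, mul_one] at h1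
        exact (bas h).ne_zero x h1
      · intro a _ ha
        rw [if_neg, mul_zero]
        intro hax
        exact hx (eq_one_of_smul h ha hax)
      · intro h1
        exact absurd (Finset.mem_univ _) h1
  let v : Ω → C := fun o => ⟨avg ρ R (bas h (Quotient.out o)), hmem _⟩
  have hind : LinearIndependent E v := by
    rw [Fintype.linearIndependent_iff]
    intro g hg o'
    have h1 : ∑ o, g o • avg ρ R (bas h (Quotient.out o)) = 0 := by
      have h2 := congrArg Subtype.val hg
      rw [Submodule.coe_sum] at h2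
      exact h2
    have h2 : (bas h).repr (∑ o, g o • avg ρ R (bas h (Quotient.out o))) (Quotient.out o') = 0 := by
      rw [h1, map_zero, Finsupp.zero_apply]
    rw [map_sum, Finset.sum_apply', Finset.sum_eq_single o'] at h2
    · rw [map_smul, Finsupp.smul_apply, smul_eq_mul] at h2
      exact (mul_eq_zero.mp h2).resolve_right (hne _)
    · intro o _ ho
      rw [map_smul, Finsupp.smul_apply, smul_eq_mul, hrepr, Finset.sum_eq_zero, mul_zero]
      intro a _
      rw [if_neg, mul_zero]
      intro hax
      apply ho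
      have h3 : (Quotient.mk (MulAction.orbitRel R (F ⧸ center F)) (Quotient.out o')) =
          Quotient.mk (MulAction.orbitRel R (F ⧸ center F)) (Quotient.out o) := by
        apply Quotient.sound
        exact MulAction.orbitRel_apply.mpr ⟨a, hax⟩
      rw [Quotient.out_eq, Quotient.out_eq] at h3
      exact h3.symm
    · intro h3
      exact absurd (Finset.mem_univ _) h3
  have h1 := hind.fintype_card_le_finrank
  rwa [← Nat.card_eq_fintype_card] at h1

end Cfsg.Agent.H555.F3.Orb
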